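import Groth.Agent.VarietyA.SmoothSepPoint
import Groth.Agent.Sga3C.KerSquare
import Groth.Prelude.Def_SGA7a
import Groth.Prelude.Def_AlgGrp
import Mathlib.AlgebraicGeometry.Morphisms.Smooth
import Mathlib.AlgebraicGeometry.Morphisms.LocalFlatDescent
import Mathlib.FieldTheory.IsSepClosed

/-!
# Points of smooth schemes over separably closed fields
-/

set_option autoImplicit false
universe u
open CategoryTheory CategoryTheory.Limits MonoidalCategory CartesianMonoidalCategory MonObj AlgebraicGeometry

namespace K406.SepPts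

/-- A nonempty smooth scheme over a field has a point with values in a finite separable extension. -/
theorem exists_finite_separable (k : Type u) [Field k] {X : Scheme.{u}} (f : X ⟶ Spec (CommRingCat.of k))
    [Smooth f] [Nonempty X] :
    ∃ (L : Type u) (_ : Field L) (_ : Algebra k L) (p : Spec (CommRingCat.of L) ⟶ X),
      FiniteDimensional k L ∧ Algebra.IsSeparable k L ∧ p ≫ f = Spec.map (CommRingCat.ofHom (algebraMap k L)) := by
  obtain ⟨y⟩ := (inferInstance : Nonempty X)
  obtain ⟨_, ⟨V, hV, rfl⟩, hyV, -⟩ := X.isBasis_affineOpens.exists_subset_of_mem_open (Set.mem_univ y) isOpen_univ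
  have hV' : IsAffineOpen V := hV
  obtain ⟨φ, hφ⟩ := Spec.map_surjective (hV'.fromSpec ≫ f)
  have hsm : φ.hom.Smooth := by
    rw [← HasRingHomProperty.Spec_iff (P := @Smooth), hφ]
    infer_instance
  algebraize [φ.hom]
  have hnt : Nontrivial Γ(X, V) := by
    have : Nonempty V := ⟨⟨y, hyV⟩⟩
    infer_instance
  obtain ⟨L, _, _, hL1, hL2, ⟨ψ⟩⟩ := Groth.Agent.VarietyA.SmoothSepPoint.exists_of_smooth k Γ(X, V)
  refine ⟨L, inferInstance, inferInstance, Spec.map (CommRingCat.ofHom ψ.toRingHom) ≫ hV'.fromSpec, hL1, hL2, ?_⟩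
  rw [Category.assoc, ← hφ, ← Spec.map_comp]
  congr 1
  ext a
  exact ψ.commutes a

/-- A nonempty smooth scheme over `k` has a point with values in any separably closed extension of `k`. -/
theorem exists_point (k : Type u) [Field k] (Ω : Type u) [Field Ω] [IsSepClosed Ω] [Algebra k Ω]
    {X : Scheme.{u}} (f : X ⟶ Spec (CommRingCat.of k)) [Smooth f] [Nonempty X] :
    ∃ p : Spec (CommRingCat.of Ω) ⟶ X, p ≫ f = Spec.map (CommRingCat.ofHom (algebraMap k Ω)) := by
  obtain ⟨L, _, _, p, h1, h2, hp⟩ := exists_finite_separable k f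
  let ψ : L →ₐ[k] Ω := IsSepClosed.lift
  refine ⟨Spec.map (CommRingCat.ofHom ψ.toRingHom) ≫ p, ?_⟩
  rw [Category.assoc, hp, ← Spec.map_comp]
  congr 1
  ext a
  exact ψ.commutes a

theorem nonempty_pts (k : Type u) [Field k] (Ω : Type u) [Field Ω] [IsSepClosed Ω] [Algebra k Ω]
    (X : Over (Spec (CommRingCat.of k))) [Smooth X.hom] [Nonempty X.left] : Nonempty (SGA7.Pts Ω X) := by
  obtain ⟨p, hp⟩ := exists_point k Ω X.hom
  exact ⟨Over.homMk p hp⟩

/-- A smooth surjective morphism is surjective on points with values in a separably closed field. -/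
theorem exists_lift_of_smooth (Ω : Type u) [Field Ω] [IsSepClosed Ω] {X Y : Scheme.{u}} (f : X ⟶ Y) [Smooth f]
    [Surjective f] (y : Spec (CommRingCat.of Ω) ⟶ Y) : ∃ x : Spec (CommRingCat.of Ω) ⟶ X, x ≫ f = y := by
  have h1 : Surjective (pullback.snd f y) := inferInstance
  have h2 : Nonempty (pullback f y : Scheme.{u}) := by
    obtain ⟨z, -⟩ := h1.surj (IsLocalRing.closedPoint Ω)
    exact ⟨z⟩
  obtain ⟨p, hp⟩ := exists_point Ω Ω (pullback.snd f y)
  have hp' : p ≫ pullback.snd f y = 𝟙 _ := by
    rw [hp]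
    exact Spec.map_id _
  refine ⟨p ≫ pullback.fst f y, ?_⟩
  rw [Category.assoc, pullback.condition, reassoc_of% hp']

/-- A flat surjective quasi-compact homomorphism with smooth kernel is smooth. -/
theorem smooth_of_isKernel {S : Scheme.{u}} {N G Q : Over S} [GrpObj N] [GrpObj G] [GrpObj Q] (i : N ⟶ G)
    (q : G ⟶ Q) [IsMonHom q] [Flat q.left] [Surjective q.left] [QuasiCompact q.left]
    (hNG : AlgGrp.IsKernel i q) [Smooth N.hom] : Smooth q.left := by
  obtain ⟨d, hd⟩ := Groth.Agent.Sga3C.KerSquare.isPullback_fst_ker q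
  have h0 : IsPullback i.left (toUnit N).left q.left (η[Q] : 𝟙_ (Over S) ⟶ Q).left := hNG.map (Over.forget S)
  have h1 : Smooth (pullback.snd q.left (η[Q] : 𝟙_ (Over S) ⟶ Q).left) := by
    have e := h0.isoPullback_inv_snd
    have h2 : Smooth ((toUnit N).left) := by
      have h3 : (toUnit N).left ≫ (𝟙_ (Over S)).hom = N.hom := Over.w (toUnit N)
      have h4 : (𝟙_ (Over S)).hom = 𝟙 S := rfl
      rw [h4] at h3
      have h5 : (toUnit N).left = N.hom := by
        rw [← h3]
        exact (Category.comp_id _).symm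
      rw [h5]
      infer_instance
    rw [← e]
    infer_instance
  have h3 : Smooth (pullback.fst q.left q.left) :=
    MorphismProperty.of_isPullback (P := @Smooth) hd.flip h1
  exact MorphismProperty.of_pullback_fst_of_descendsAlong (P := @Smooth)
    (Q := @Surjective ⊓ @Flat ⊓ @QuasiCompact) (f := q.left) (g := q.left)
    ⟨⟨inferInstance, inferInstance⟩, inferInstance⟩ h3

end K406.SepPts
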