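import Groth.Prelude.Def_AlgGrp
import Mathlib.AlgebraicGeometry.Noetherian
import Mathlib.AlgebraicGeometry.Morphisms.Flat

/-!
# Basics on schemes of finite type over a field
-/

set_option autoImplicit false
universe u
open CategoryTheory CategoryTheory.Limits MonoidalCategory CartesianMonoidalCategory MonObj AlgebraicGeometry

namespace K406.Basics

variable {k : Type u} [Field k]

theorem isLocallyNoetherian {X : Scheme.{u}} (f : X ⟶ Spec (CommRingCat.of k)) [LocallyOfFiniteType f] :
    IsLocallyNoetherian X := LocallyOfFiniteType.isLocallyNoetherian f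

theorem isNoetherian {X : Scheme.{u}} (f : X ⟶ Spec (CommRingCat.of k)) [LocallyOfFiniteType f] [QuasiCompact f] :
    IsNoetherian X := by
  have := LocallyOfFiniteType.isLocallyNoetherian f
  have : CompactSpace X := QuasiCompact.compactSpace_of_compactSpace f
  exact {}

theorem quasiCompact_left {X Y : Over (Spec (CommRingCat.of k))} [LocallyOfFiniteType X.hom] [QuasiCompact X.hom]
    (f : X ⟶ Y) : QuasiCompact f.left := by
  have := isNoetherian X.hom
  infer_instance

theorem surjective_hom {X : Scheme.{u}} (f : X ⟶ Spec (CommRingCat.of k)) [h : Nonempty X] : Surjective f := by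
  refine ⟨fun y => ?_⟩
  obtain ⟨x⟩ := h
  exact ⟨x, Subsingleton.elim (α := PrimeSpectrum k) _ _⟩

end K406.Basics
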