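import Groth.Agent.AlgGrp.K406.UnitsTensor
import Groth.Agent.Sga3C.Affinization
import Groth.Agent.Books.AlgPts
import Groth.Agent.AlgGrp.K406.Basics

/-!
# Units on products of varieties (Rosenlicht)
-/

set_option autoImplicit false
universe u
open CategoryTheory CategoryTheory.Limits MonoidalCategory CartesianMonoidalCategory MonObj GrpObj AlgebraicGeometry
open TensorProduct hiding lift

namespace K406.UnitsGeom

open Groth.Agent

variable {k : Type u} [Field k]

/-- global functions as a `k`-algebra -/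
noncomputable abbrev algΓ (X : Over (Spec (CommRingCat.of k))) : Algebra k Γ(X.left, ⊤) :=
  ((Scheme.ΓSpecIso (CommRingCat.of k)).inv ≫ X.hom.appTop).hom.toAlgebra

attribute [local instance] algΓ

/-- pullback of functions as a `k`-algebra homomorphism -/
noncomputable def pull {X Y : Over (Spec (CommRingCat.of k))} (f : X ⟶ Y) : Γ(Y.left, ⊤) →ₐ[k] Γ(X.left, ⊤) :=
  ⟨f.left.appTop.hom, fun c => by
    change (((Scheme.ΓSpecIso (CommRingCat.of k)).inv ≫ Y.hom.appTop) ≫ f.left.appTop).hom c = _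
    rw [Category.assoc, ← Scheme.Hom.comp_appTop, Over.w]
    rfl⟩

theorem pull_apply {X Y : Over (Spec (CommRingCat.of k))} (f : X ⟶ Y) (a : Γ(Y.left, ⊤)) :
    pull f a = f.left.appTop a := rfl

theorem pull_comp {X Y Z : Over (Spec (CommRingCat.of k))} (f : X ⟶ Y) (g : Y ⟶ Z) (a : Γ(Z.left, ⊤)) :
    pull (f ≫ g) a = pull f (pull g a) := by
  rw [pull_apply, Over.comp_left, Scheme.Hom.comp_appTop]
  rfl

theorem pull_id {X : Over (Spec (CommRingCat.of k))} (a : Γ(X.left, ⊤)) :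
    pull (𝟙 X) a = a := by
  rw [pull_apply, Over.id_left, Scheme.Hom.id_appTop]
  rfl

/-- evaluation at a rational point -/
noncomputable def ev {X : Over (Spec (CommRingCat.of k))} (x : 𝟙_ (Over (Spec (CommRingCat.of k))) ⟶ X) :
    Γ(X.left, ⊤) →ₐ[k] k :=
  ⟨(Scheme.ΓSpecIso (CommRingCat.of k)).hom.hom.comp (pull x).toRingHom, fun c => by
    change (Scheme.ΓSpecIso (CommRingCat.of k)).hom.hom (pull x (algebraMap k _ c)) = _
    rw [AlgHom.commutes]
    change (((Scheme.ΓSpecIso (CommRingCat.of k)).inv ≫ (𝟙 (Spec (CommRingCat.of k)) : _ ⟶ _).appTop) ≫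
      (Scheme.ΓSpecIso (CommRingCat.of k)).hom).hom c = _
    rw [Scheme.Hom.id_appTop, Category.comp_id, Iso.inv_hom_id]
    rfl⟩

/-- the pullback of a function along `T ⟶ pt ⟶ X` is constant -/
theorem pull_toUnit_comp {X T : Over (Spec (CommRingCat.of k))} (x : 𝟙_ (Over (Spec (CommRingCat.of k))) ⟶ X)
    (a : Γ(X.left, ⊤)) : pull (toUnit T ≫ x) a = algebraMap k _ (ev x a) := by
  rw [pull_comp]
  have h1 : (toUnit T).left = T.hom := by
    have h3 : (toUnit T).left ≫ (𝟙_ (Over (Spec (CommRingCat.of k)))).hom = T.hom := Over.w (toUnit T)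
    rw [← h3]
    exact (Category.comp_id _).symm
  change _ = ((Scheme.ΓSpecIso (CommRingCat.of k)).inv ≫ T.hom.appTop).hom
    ((Scheme.ΓSpecIso (CommRingCat.of k)).hom.hom (pull x a))
  change ((toUnit T).left.appTop).hom (pull x a) = (((Scheme.ΓSpecIso (CommRingCat.of k)).hom ≫
    (Scheme.ΓSpecIso (CommRingCat.of k)).inv ≫ T.hom.appTop).hom (pull x a))
  rw [Iso.hom_inv_id_assoc, h1]

/-- Künneth in degree zero as a ring isomorphism. -/
theorem exists_tensor_equiv (X Y : Over (Spec (CommRingCat.of k))) [CompactSpace X.left]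
    [QuasiSeparatedSpace X.left] [CompactSpace Y.left] [QuasiSeparatedSpace Y.left] :
    ∃ e : Γ(X.left, ⊤) ⊗[k] Γ(Y.left, ⊤) ≃+* Γ((X ⊗ Y).left, ⊤),
      ∀ a b, e (a ⊗ₜ b) = pull (fst X Y) a * pull (snd X Y) b := by
  have h1 := Sga3C.Affinization.isPushout_appTop k X Y
  have h2 : IsPushout (CommRingCat.ofHom (algebraMap k Γ(X.left, ⊤))) (CommRingCat.ofHom (algebraMap k Γ(Y.left, ⊤)))
      (fst X Y).left.appTop (snd X Y).left.appTop :=
    h1.of_iso (Scheme.ΓSpecIso (CommRingCat.of k)) (Iso.refl _) (Iso.refl _) (Iso.refl _)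
      (by
        rw [Iso.refl_hom, Category.comp_id]
        change _ = _ ≫ ((Scheme.ΓSpecIso (CommRingCat.of k)).inv ≫ X.hom.appTop)
        rw [Iso.hom_inv_id_assoc])
      (by
        rw [Iso.refl_hom, Category.comp_id]
        change _ = _ ≫ ((Scheme.ΓSpecIso (CommRingCat.of k)).inv ≫ Y.hom.appTop)
        rw [Iso.hom_inv_id_assoc])
      (by simp) (by simp)
  have h3 := CommRingCat.isPushout_tensorProduct k Γ(X.left, ⊤) Γ(Y.left, ⊤)
  let e := h3.isoIsPushout _ _ h2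
  refine ⟨e.commRingCatIsoToRingEquiv, fun a b => ?_⟩
  have h4 : a ⊗ₜ[k] b = (a ⊗ₜ[k] (1 : Γ(Y.left, ⊤))) * ((1 : Γ(X.left, ⊤)) ⊗ₜ[k] b) := by
    rw [Algebra.TensorProduct.tmul_mul_tmul, _root_.mul_one, _root_.one_mul]
  rw [h4, map_mul]
  congr 1
  · exact congr($(h3.inl_isoIsPushout_hom _ _ h2).hom a)
  · exact congr($(h3.inr_isoIsPushout_hom _ _ h2).hom b)

/-- The rigidity formula for units on a product of varieties:
`f(x₀,y₀) f(x,y) = f(x,y₀) f(x₀,y)`. -/
theorem unit_prod [IsAlgClosed k] (X Y : Over (Spec (CommRingCat.of k))) [IsIntegral X.left] [IsIntegral Y.left]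
    [CompactSpace X.left] [QuasiSeparatedSpace X.left] [CompactSpace Y.left] [QuasiSeparatedSpace Y.left]
    (x₀ : 𝟙_ (Over (Spec (CommRingCat.of k))) ⟶ X) (y₀ : 𝟙_ (Over (Spec (CommRingCat.of k))) ⟶ Y)
    (f : Γ((X ⊗ Y).left, ⊤)) (hf : IsUnit f) :
    algebraMap k _ (ev (lift x₀ y₀) f) * f =
      pull (fst X Y) (pull (lift (𝟙 X) (toUnit X ≫ y₀)) f) * pull (snd X Y) (pull (lift (toUnit Y ≫ x₀) (𝟙 Y)) f) := by
  obtain ⟨e, he⟩ := exists_tensor_equiv X Y
  obtain ⟨t, rfl⟩ := e.surjective f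
  have ht : IsUnit t := by simpa using hf.map e.symm
  have hdX : IsDomain Γ(X.left, ⊤) := inferInstance
  have hdY : IsDomain Γ(Y.left, ⊤) := inferInstance
  have key := UnitsTensor.unit_eq_tmul (ev x₀) (ev y₀) t ht
  have h1 : ∀ t, pull (lift (𝟙 X) (toUnit X ≫ y₀)) (e t) = UnitsTensor.evR Γ(X.left, ⊤) (ev y₀) t := by
    intro t
    induction t using TensorProduct.induction_on with
    | zero => simp
    | tmul a b =>
      rw [he, map_mul, ← pull_comp, ← pull_comp, lift_fst, lift_snd, pull_id, pull_toUnit_comp,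
        UnitsTensor.evR_tmul, Algebra.smul_def, mul_comm]
    | add x y hx hy => rw [map_add, map_add, hx, hy, map_add]
  have h2 : ∀ t, pull (lift (toUnit Y ≫ x₀) (𝟙 Y)) (e t) =
      (Algebra.TensorProduct.lid k Γ(Y.left, ⊤)).toAlgHom.comp
        (Algebra.TensorProduct.map (ev x₀) (AlgHom.id k Γ(Y.left, ⊤))) t := by
    intro t
    induction t using TensorProduct.induction_on with
    | zero => simp
    | tmul a b =>
      rw [he, map_mul, ← pull_comp, ← pull_comp, lift_fst, lift_snd, pull_id, pull_toUnit_comp]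
      simp [Algebra.smul_def]
    | add x y hx hy => rw [map_add, map_add, hx, hy, map_add]
  have h3 : ev (lift x₀ y₀) (e t) = ev x₀ (UnitsTensor.evR Γ(X.left, ⊤) (ev y₀) t) := by
    rw [← h1]
    change (Scheme.ΓSpecIso (CommRingCat.of k)).hom.hom (pull (lift x₀ y₀) (e t)) =
      (Scheme.ΓSpecIso (CommRingCat.of k)).hom.hom (pull x₀ (pull (lift (𝟙 X) (toUnit X ≫ y₀)) (e t)))
    rw [← pull_comp]
    congr 3
    ext1 <;> simp
  rw [h1, h2, h3, ← he, ← key]
  have h4 : ∀ (c : k) (t : Γ(X.left, ⊤) ⊗[k] Γ(Y.left, ⊤)), e (c • t) = algebraMap k _ c * e t := by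
    intro c t
    rw [Algebra.smul_def, map_mul]
    congr 1
    change e ((algebraMap k Γ(X.left, ⊤) c) ⊗ₜ[k] 1) = _
    rw [he, map_one, _root_.mul_one, AlgHom.commutes]
  rw [h4]

/-- A nonempty scheme locally of finite type over an algebraically closed field has a rational point. -/
theorem exists_point [IsAlgClosed k] (X : Over (Spec (CommRingCat.of k))) [LocallyOfFiniteType X.hom] [Nonempty X.left] :
    Nonempty (𝟙_ (Over (Spec (CommRingCat.of k))) ⟶ X) := by
  obtain ⟨x, -⟩ := Books.AlgPts.exists_pt_mem (X := X) (U := Set.univ) Set.univ_nonempty isOpen_univ.isLocallyClosed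
  exact ⟨x⟩

/-- Every unit on a product of varieties is a product of units. -/
theorem exists_units_mul_eq [IsAlgClosed k] (X Y : Over (Spec (CommRingCat.of k))) [IsIntegral X.left]
    [IsIntegral Y.left] [QuasiCompact X.hom] [QuasiCompact Y.hom] [LocallyOfFiniteType X.hom]
    [LocallyOfFiniteType Y.hom] (f : Γ((X ⊗ Y).left, ⊤)) (hf : IsUnit f) :
    ∃ (g : Γ(X.left, ⊤)) (h : Γ(Y.left, ⊤)), IsUnit g ∧ IsUnit h ∧ f = pull (fst X Y) g * pull (snd X Y) h := by
  have := Basics.isNoetherian X.hom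
  have := Basics.isNoetherian Y.hom
  obtain ⟨x₀⟩ := exists_point X
  obtain ⟨y₀⟩ := exists_point Y
  have key := unit_prod X Y x₀ y₀ f hf
  have hc : IsUnit (ev (lift x₀ y₀) f) := hf.map _
  refine ⟨algebraMap k _ (ev (lift x₀ y₀) f)⁻¹ * pull (lift (𝟙 X) (toUnit X ≫ y₀)) f,
    pull (lift (toUnit Y ≫ x₀) (𝟙 Y)) f, ?_, hf.map _, ?_⟩
  · exact (hc.inv.map _).mul (hf.map _)
  · rw [map_mul, AlgHom.commutes, _root_.mul_assoc, ← key, ← _root_.mul_assoc, ← map_mul,
      inv_mul_cancel₀ hc.ne_zero, map_one, _root_.one_mul]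

variable [IsAlgClosed k]

/-- A unit on a connected algebraic group which is `1` at the origin is a character. -/
theorem character_of_unit (G : Over (Spec (CommRingCat.of k))) [GrpObj G] [IsIntegral G.left] [QuasiCompact G.hom]
    [LocallyOfFiniteType G.hom] (f : Γ(G.left, ⊤)) (hf : IsUnit f) (he : pull η[G] f = 1) :
    pull μ[G] f = pull (fst G G) f * pull (snd G G) f := by
  have := Basics.isNoetherian G.hom
  have key := unit_prod G G η[G] η[G] (pull μ[G] f) (hf.map _)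
  have h1 : lift η[G] η[G] ≫ μ[G] = η[G] := by
    have : lift η[G] η[G] ≫ μ[G] = (η[G] : 𝟙_ (Over (Spec (CommRingCat.of k))) ⟶ G) * η[G] := rfl
    rw [this, show (η[G] : 𝟙_ (Over (Spec (CommRingCat.of k))) ⟶ G) = 1 from one_eq_one _, _root_.mul_one]
  have h2 : lift (𝟙 G) (toUnit G ≫ η[G]) ≫ μ[G] = 𝟙 G := by
    have : lift (𝟙 G) (toUnit G ≫ η[G]) ≫ μ[G] = (𝟙 G : G ⟶ G) * (toUnit G ≫ η[G]) := rfl
    rw [this, ← Hom.one_def, _root_.mul_one]
  have h3 : lift (toUnit G ≫ η[G]) (𝟙 G) ≫ μ[G] = 𝟙 G := by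
    have : lift (toUnit G ≫ η[G]) (𝟙 G) ≫ μ[G] = (toUnit G ≫ η[G]) * (𝟙 G : G ⟶ G) := rfl
    rw [this, ← Hom.one_def, _root_.one_mul]
  have h4 : ev (lift η[G] η[G]) (pull μ[G] f) = 1 := by
    change (Scheme.ΓSpecIso (CommRingCat.of k)).hom.hom (pull (lift η[G] η[G]) (pull μ[G] f)) = 1
    rw [← pull_comp, h1, he, map_one]
  rw [h4, map_one, _root_.one_mul, ← pull_comp (lift (𝟙 G) (toUnit G ≫ η[G])), h2, pull_id,
    ← pull_comp (lift (toUnit G ≫ η[G]) (𝟙 G)), h3, pull_id] at key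
  exact key

theorem exists_character (G X : Over (Spec (CommRingCat.of k))) [GrpObj G] [IsIntegral G.left] [QuasiCompact G.hom]
    [LocallyOfFiniteType G.hom] [IsIntegral X.left] [QuasiCompact X.hom] [LocallyOfFiniteType X.hom]
    (f : Γ((G ⊗ X).left, ⊤)) (hf : IsUnit f) :
    ∃ (χ : Γ(G.left, ⊤)) (u : Γ(X.left, ⊤)), IsUnit χ ∧ pull η[G] χ = 1 ∧
      pull μ[G] χ = pull (fst G G) χ * pull (snd G G) χ ∧ IsUnit u ∧
      f = pull (fst G X) χ * pull (snd G X) u := by
  obtain ⟨g, h, hg, hh, hfgh⟩ := exists_units_mul_eq G X f hf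
  have hc : IsUnit (ev η[G] g) := hg.map _
  have hχ : IsUnit (algebraMap k _ (ev η[G] g)⁻¹ * g) := (hc.inv.map _).mul hg
  have hχ1 : pull η[G] (algebraMap k _ (ev η[G] g)⁻¹ * g) = 1 := by
    have h1 : (Scheme.ΓSpecIso (CommRingCat.of k)).hom.hom (pull η[G] (algebraMap k _ (ev η[G] g)⁻¹ * g)) = 1 := by
      change ev η[G] _ = 1
      rw [map_mul, AlgHom.commutes]
      exact inv_mul_cancel₀ hc.ne_zero
    have h2 : Function.Injective (Scheme.ΓSpecIso (CommRingCat.of k)).hom.hom :=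
      (ConcreteCategory.bijective_of_isIso (Scheme.ΓSpecIso (CommRingCat.of k)).hom).1
    apply h2
    rw [h1, map_one]
  refine ⟨_, algebraMap k _ (ev η[G] g) * h, hχ, hχ1, character_of_unit G _ hχ hχ1, (hc.map _).mul hh, ?_⟩
  rw [hfgh, map_mul, map_mul, AlgHom.commutes, AlgHom.commutes]
  have : algebraMap k Γ((G ⊗ X).left, ⊤) (ev η[G] g)⁻¹ * algebraMap k Γ((G ⊗ X).left, ⊤) (ev η[G] g) = 1 := by
    rw [← map_mul, inv_mul_cancel₀ hc.ne_zero, map_one]
  calc _ = (algebraMap k Γ((G ⊗ X).left, ⊤) (ev η[G] g)⁻¹ * algebraMap k Γ((G ⊗ X).left, ⊤) (ev η[G] g)) *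
        (pull (fst G X) g * pull (snd G X) h) := by rw [this, _root_.one_mul]
    _ = _ := by ring

theorem pull_fst_injective (G X : Over (Spec (CommRingCat.of k))) [LocallyOfFiniteType X.hom] [Nonempty X.left] :
    Function.Injective (pull (fst G X)) := by
  obtain ⟨x₀⟩ := exists_point X
  intro a b hab
  have := congrArg (pull (lift (𝟙 G) (toUnit G ≫ x₀))) hab
  rwa [← pull_comp, ← pull_comp, lift_fst, pull_id, pull_id] at this

theorem existsUnique_character (G X : Over (Spec (CommRingCat.of k))) [GrpObj G] [IsIntegral G.left]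
    [QuasiCompact G.hom] [LocallyOfFiniteType G.hom] [IsIntegral X.left] [QuasiCompact X.hom]
    [LocallyOfFiniteType X.hom] (a : AlgGrp.Action G X) (f : Γ(X.left, ⊤)) (hf : IsUnit f) :
    ∃! χ : Γ(G.left, ⊤), IsUnit χ ∧ pull η[G] χ = 1 ∧
      pull μ[G] χ = pull (fst G G) χ * pull (snd G G) χ ∧
      pull a.act f = pull (fst G X) χ * pull (snd G X) f := by
  obtain ⟨χ, u, h1, h2, h3, h4, h5⟩ := exists_character G X (pull a.act f) (hf.map _)
  have h6 : f = u := by
    have h7 : lift (toUnit X ≫ η[G]) (𝟙 X) ≫ a.act = 𝟙 X := by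
      have h8 := a.one_act
      have h9 : lift (toUnit X ≫ η[G]) (𝟙 X) = lift (toUnit X) (𝟙 X) ≫ (η[G] ▷ X) := by
        ext1 <;> simp
      rw [h9, Category.assoc, h8]
      simp
    have h8 := congrArg (pull (lift (toUnit X ≫ η[G]) (𝟙 X))) h5
    rw [← pull_comp, h7, pull_id, map_mul, ← pull_comp, ← pull_comp, lift_fst, lift_snd, pull_id, pull_comp, h2,
      map_one, _root_.one_mul] at h8
    exact h8
  refine ⟨χ, ⟨h1, h2, h3, by rw [h5, h6]⟩, ?_⟩
  rintro χ' ⟨-, -, -, h5'⟩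
  apply pull_fst_injective G X
  rw [h5, ← h6] at h5'
  exact ((hf.map (pull (snd G X))).mul_right_cancel h5').symm

end K406.UnitsGeom
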