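import Mathlib.RingTheory.MvPolynomial.Basic
import Mathlib.Algebra.MvPolynomial.NoZeroDivisors
import Mathlib.RingTheory.Valuation.ValuationSubring
import Mathlib.RingTheory.DiscreteValuationRing.Basic
import Mathlib.RingTheory.Localization.FractionRing

/-!
# The valuation ring of the total degree
-/

set_option autoImplicit false
universe u

open MvPolynomial

namespace K406.DegVal

variable (k : Type u) [Field k] (n : ℕ)

/-- the polynomial ring -/
abbrev P := MvPolynomial (Fin n) k
/-- the rational function field -/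
abbrev F := FractionRing (P k n)

variable {k n}

theorem td_mul {f g : P k n} (hf : f ≠ 0) (hg : g ≠ 0) : (f * g).totalDegree = f.totalDegree + g.totalDegree :=
  totalDegree_mul_of_isDomain hf hg

variable (k n) in
/-- rational functions of degree at most zero -/
def V : ValuationSubring (F k n) where
  carrier := {z | ∃ f g : P k n, g ≠ 0 ∧ f.totalDegree ≤ g.totalDegree ∧
    z = algebraMap _ (F k n) f / algebraMap _ (F k n) g}
  mul_mem' := by
    rintro _ _ ⟨f, g, hg, hd, rfl⟩ ⟨f', g', hg', hd', rfl⟩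
    refine ⟨f * f', g * g', mul_ne_zero hg hg', ?_, ?_⟩
    · rw [td_mul hg hg']
      exact (totalDegree_mul _ _).trans (add_le_add hd hd')
    · rw [map_mul, map_mul, div_mul_div_comm]
  one_mem' := ⟨1, 1, one_ne_zero, le_rfl, by simp⟩
  add_mem' := by
    rintro _ _ ⟨f, g, hg, hd, rfl⟩ ⟨f', g', hg', hd', rfl⟩
    refine ⟨f * g' + g * f', g * g', mul_ne_zero hg hg', ?_, ?_⟩
    · rw [td_mul hg hg']
      refine (totalDegree_add _ _).trans (max_le ?_ ?_)
      · exact (totalDegree_mul _ _).trans (add_le_add hd le_rfl)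
      · exact (totalDegree_mul _ _).trans (add_le_add le_rfl hd')
    · have h1 : algebraMap _ (F k n) g ≠ 0 := (map_ne_zero_iff _ (IsFractionRing.injective _ _)).mpr hg
      have h2 : algebraMap _ (F k n) g' ≠ 0 := (map_ne_zero_iff _ (IsFractionRing.injective _ _)).mpr hg'
      rw [map_add, map_mul, map_mul, map_mul, div_add_div _ _ h1 h2]
  zero_mem' := ⟨0, 1, one_ne_zero, by simp, by simp⟩
  neg_mem' := by
    rintro _ ⟨f, g, hg, hd, rfl⟩
    exact ⟨-f, g, hg, by rwa [totalDegree_neg], by rw [map_neg, neg_div]⟩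
  mem_or_inv_mem' := by
    intro z
    obtain ⟨f, g, hg, rfl⟩ := IsFractionRing.div_surjective (A := P k n) z
    have hg0 : g ≠ 0 := nonZeroDivisors.ne_zero hg
    rcases le_total f.totalDegree g.totalDegree with h | h
    · exact Or.inl ⟨f, g, hg0, h, rfl⟩
    · by_cases hf : f = 0
      · left
        exact ⟨0, 1, one_ne_zero, by simp, by simp [hf]⟩
      · right
        exact ⟨g, f, hf, h, by rw [inv_div]⟩

theorem mem_iff {f g : P k n} (hf : f ≠ 0) (hg : g ≠ 0) :
    algebraMap _ (F k n) f / algebraMap _ (F k n) g ∈ V k n ↔ f.totalDegree ≤ g.totalDegree := by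
  constructor
  · rintro ⟨f', g', hg', hd, h⟩
    have h1 : algebraMap _ (F k n) g ≠ 0 := (map_ne_zero_iff _ (IsFractionRing.injective _ _)).mpr hg
    have h2 : algebraMap _ (F k n) g' ≠ 0 := (map_ne_zero_iff _ (IsFractionRing.injective _ _)).mpr hg'
    rw [div_eq_div_iff h1 h2, ← map_mul, ← map_mul] at h
    have h3 : f * g' = f' * g := IsFractionRing.injective (P k n) (F k n) h
    have hf' : f' ≠ 0 := by
      rintro rfl
      rw [zero_mul] at h3
      exact mul_ne_zero hf hg' h3
    have h4 := congrArg totalDegree h3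
    rw [td_mul hf hg', td_mul hf' hg] at h4
    omega
  · intro h
    exact ⟨f, g, hg, h, rfl⟩

/-- A polynomial in the valuation ring is constant. -/
theorem totalDegree_eq_zero_of_mem {f : P k n} (h : algebraMap _ (F k n) f ∈ V k n) : f.totalDegree = 0 := by
  by_cases hf : f = 0
  · rw [hf, totalDegree_zero]
  · have h1 := (mem_iff (k := k) (n := n) hf one_ne_zero).mp (by rwa [map_one, div_one])
    simpa using h1

theorem mem_V_C (c : k) : algebraMap (P k n) (F k n) (C c) ∈ V k n :=
  ⟨C c, 1, one_ne_zero, by simp, by simp⟩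

theorem isUnit_iff {f g : P k n} (hf : f ≠ 0) (hg : g ≠ 0)
    (h : algebraMap _ (F k n) f / algebraMap _ (F k n) g ∈ V k n) :
    IsUnit (⟨_, h⟩ : V k n) ↔ f.totalDegree = g.totalDegree := by
  have h1 : algebraMap _ (F k n) g ≠ 0 := (map_ne_zero_iff _ (IsFractionRing.injective _ _)).mpr hg
  have h2 : algebraMap _ (F k n) f ≠ 0 := (map_ne_zero_iff _ (IsFractionRing.injective _ _)).mpr hf
  rw [(mem_iff hf hg)] at h
  constructor
  · intro hu
    obtain ⟨⟨w, hw⟩, hw'⟩ := hu.exists_right_inv
    have h3 : algebraMap _ (F k n) f / algebraMap _ (F k n) g * w = 1 := congrArg Subtype.val hw'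
    have h4 : w = algebraMap _ (F k n) g / algebraMap _ (F k n) f := by
      rw [← inv_div]
      exact (inv_eq_of_mul_eq_one_right h3).symm
    rw [h4, mem_iff hg hf] at hw
    omega
  · intro h3
    refine IsUnit.of_mul_eq_one ⟨algebraMap _ (F k n) g / algebraMap _ (F k n) f, (mem_iff hg hf).mpr h3.ge⟩ ?_
    ext
    change algebraMap _ (F k n) f / algebraMap _ (F k n) g * (algebraMap _ (F k n) g / algebraMap _ (F k n) f) = 1
    rw [div_mul_div_comm, mul_comm, div_self (mul_ne_zero h1 h2)]

theorem exists_rep (z : V k n) (hz : z ≠ 0) : ∃ (f g : P k n), f ≠ 0 ∧ g ≠ 0 ∧ f.totalDegree ≤ g.totalDegree ∧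
    (z : F k n) = algebraMap _ (F k n) f / algebraMap _ (F k n) g := by
  obtain ⟨f, g, hg, hd, h⟩ := z.2
  refine ⟨f, g, ?_, hg, hd, h⟩
  rintro rfl
  apply hz
  ext
  rw [h]
  simp

/-- The valuation ring of the degree is a discrete valuation ring in positive dimension. -/
theorem isDVR (i : Fin n) : IsDiscreteValuationRing (V k n) := by
  have hX : (X i : P k n) ≠ 0 := X_ne_zero i
  have hmem : algebraMap (P k n) (F k n) 1 / algebraMap (P k n) (F k n) (X i) ∈ V k n :=
    (mem_iff one_ne_zero hX).mpr (by simp)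
  apply IsDiscreteValuationRing.ofHasUnitMulPowIrreducibleFactorization
  refine ⟨⟨_, hmem⟩, ⟨?_, ?_⟩, ?_⟩
  · rw [isUnit_iff one_ne_zero hX hmem]
    simp
  · intro a b hab
    have ha : a ≠ 0 := by
      rintro rfl
      rw [zero_mul] at hab
      have := congrArg Subtype.val hab
      change algebraMap (P k n) (F k n) 1 / algebraMap (P k n) (F k n) (X i) = 0 at this
      rw [map_one, one_div, inv_eq_zero, map_eq_zero_iff _ (IsFractionRing.injective _ _)] at this
      exact hX this
    have hb : b ≠ 0 := by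
      rintro rfl
      rw [mul_zero] at hab
      have := congrArg Subtype.val hab
      change algebraMap (P k n) (F k n) 1 / algebraMap (P k n) (F k n) (X i) = 0 at this
      rw [map_one, one_div, inv_eq_zero, map_eq_zero_iff _ (IsFractionRing.injective _ _)] at this
      exact hX this
    obtain ⟨f, g, hf, hg, hd, h⟩ := exists_rep a ha
    obtain ⟨f', g', hf', hg', hd', h'⟩ := exists_rep b hb
    have h1 : algebraMap _ (F k n) g ≠ 0 := (map_ne_zero_iff _ (IsFractionRing.injective _ _)).mpr hg
    have h1' : algebraMap _ (F k n) g' ≠ 0 := (map_ne_zero_iff _ (IsFractionRing.injective _ _)).mpr hg'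
    have h2 : algebraMap _ (F k n) (X i) ≠ 0 := (map_ne_zero_iff _ (IsFractionRing.injective _ _)).mpr hX
    have h3 := congrArg Subtype.val hab
    change algebraMap (P k n) (F k n) 1 / algebraMap (P k n) (F k n) (X i) = (a : F k n) * b at h3
    rw [h, h', div_mul_div_comm, ← map_mul, ← map_mul, div_eq_div_iff h2 (by
      rw [map_mul]; exact mul_ne_zero h1 h1'), ← map_mul, ← map_mul] at h3
    have h4 := congrArg totalDegree (IsFractionRing.injective (P k n) (F k n) h3)
    rw [one_mul, td_mul hg hg', td_mul (mul_ne_zero hf hf') hX, td_mul hf hf', totalDegree_X] at h4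
    have ha' : a = ⟨_, (mem_iff hf hg).mpr hd⟩ := Subtype.ext h
    have hb' : b = ⟨_, (mem_iff hf' hg').mpr hd'⟩ := Subtype.ext h'
    rw [ha', hb', isUnit_iff hf hg, isUnit_iff hf' hg']
    omega
  · intro z hz
    obtain ⟨f, g, hf, hg, hd, h⟩ := exists_rep z hz
    have hz' : z = ⟨_, (mem_iff hf hg).mpr hd⟩ := Subtype.ext h
    let m := g.totalDegree - f.totalDegree
    have hXm : (X i : P k n) ^ m ≠ 0 := pow_ne_zero _ hX
    have h1 : algebraMap _ (F k n) g ≠ 0 := (map_ne_zero_iff _ (IsFractionRing.injective _ _)).mpr hg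
    have h2 : algebraMap _ (F k n) (X i) ≠ 0 := (map_ne_zero_iff _ (IsFractionRing.injective _ _)).mpr hX
    have hdeg : ((X i : P k n) ^ m * f).totalDegree = g.totalDegree := by
      rw [td_mul hXm hf]
      have : ((X i : P k n) ^ m).totalDegree = m := by simp
      omega
    have hu := (isUnit_iff (k := k) (n := n) (mul_ne_zero hXm hf) hg ((mem_iff (mul_ne_zero hXm hf) hg).mpr hdeg.le)).mpr hdeg
    refine ⟨m, ⟨hu.unit, ?_⟩⟩
    ext
    change ((algebraMap (P k n) (F k n) 1 / algebraMap (P k n) (F k n) (X i)) ^ m) *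
      (algebraMap _ (F k n) ((X i : P k n) ^ m * f) / algebraMap _ (F k n) g) = z
    have key : ∀ (a b c : F k n), a ≠ 0 → (1 / a) ^ m * ((a ^ m * b) / c) = b / c := by
      intro a b c ha
      rw [one_div, inv_pow, mul_div_assoc, ← mul_assoc, inv_mul_cancel₀ (pow_ne_zero _ ha), one_mul]
    rw [h, map_one, map_mul, map_pow]
    exact key _ _ _ h2

end K406.DegVal
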