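import Groth.Agent.Etcore.SmoothRed
import Groth.Agent.Sga3C.GrpIrr
import Groth.Prelude.Def_AlgGrp

/-!
# Smooth connected group schemes over an algebraically closed field are integral
-/

set_option autoImplicit false
universe u
open CategoryTheory CategoryTheory.Limits MonoidalCategory CartesianMonoidalCategory MonObj GrpObj AlgebraicGeometry

namespace K406.GrpInt

theorem isIntegral_grp {K : Type u} [Field K] [IsAlgClosed K]
    (G : Over (Spec (CommRingCat.of K))) [GrpObj G] [Smooth G.hom] [ConnectedSpace G.left] :
    IsIntegral G.left := by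
  have h1 : IsReduced G.left := Groth.Agent.Etcore.SmoothRed.isReduced_of_smooth G.hom
  have h2 : GrpObj (Over.mk G.hom) := ‹GrpObj G›
  have h3 : IrreducibleSpace G.left := Groth.Agent.Sga3C.GrpIrr.irreducibleSpace_of_isAlgClosed (k := K) G.hom
  exact isIntegral_of_irreducibleSpace_of_isReduced _

end K406.GrpInt
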