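import Groth.Agent.AlgGrp.K406.OrbRed
import Groth.Agent.Sga3.H794.ChevClosed
import Groth.Agent.Sga3B.RedIdComp
import Groth.Agent.AlgGrp.K404.MulPb

/-!
# Closed orbits: general case
-/

set_option autoImplicit false
universe u
open CategoryTheory MonoidalCategory CartesianMonoidalCategory MonObj GrpObj AlgebraicGeometry WithConv
open Groth.Agent.Books.BorelOrb Groth.Agent.Books.AlgPts

namespace K406.OrbFin

open K406.OrbRed

section Alg

variable {K : Type u} [Field K] [IsAlgClosed K]

/-- Smooth connected groups. -/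
theorem isClosed_smooth {G X : Over (Spec (CommRingCat.of K))} [GrpObj G] [Smooth G.hom] [QuasiCompact G.hom]
    [ConnectedSpace G.left] [LocallyOfFiniteType X.hom] [X.left.IsQuasiAffine]
    (a : AlgGrp.Action G X) (x : 𝟙_ (Over (Spec (CommRingCat.of K))) ⟶ X) (h : FixTori a x) :
    IsClosed (Set.range (a.orbitMap x).left) := by
  obtain ⟨L, _, l, Q, _, q, h1, h2, h3, h4, h5, h6, h7, h8, h9, h10, h11, h12, h13⟩ :=
    Groth.Agent.Sga3.H794.ChevClosed.exists_chevalley K G
  have hlm : Mono l := Groth.Agent.Books.AlgPtsGrp.mono_of_isClosedImmersion l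
  have hpb : IsPullback (fst G L) ((G ◁ l) ≫ μ[G]) q q := by
    have := K404.MulPb.isPullback_mul (C := Scheme.{u}) h10 (j := 𝟙 G)
    rwa [Category.id_comp, id_tensorHom] at this
  have hlfp : LocallyOfFinitePresentation q.left := by
    have h1 : LocallyOfFiniteType (q.left ≫ Q.hom) := by
      rw [Over.w]; infer_instance
    have h2 : LocallyOfFiniteType q.left := locallyOfFiniteType_of_comp q.left Q.hom
    have hn : IsLocallyNoetherian Q.left := LocallyOfFiniteType.isLocallyNoetherian Q.hom
    exact LocallyOfFinitePresentation.iff_locallyOfFiniteType.2 h2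
  apply isClosed_of_subgroup a x l q hpb
  rw [← orbitMap_restrict]
  exact isClosed_aff (a.restrict l) x (h.restrict l)

/-- Groups of finite type. -/
theorem isClosed_ft {G X : Over (Spec (CommRingCat.of K))} [GrpObj G] [LocallyOfFiniteType G.hom]
    [QuasiCompact G.hom] [LocallyOfFiniteType X.hom] [X.left.IsQuasiAffine]
    (a : AlgGrp.Action G X) (x : 𝟙_ (Over (Spec (CommRingCat.of K))) ⟶ X) (h : FixTori a x) :
    IsClosed (Set.range (a.orbitMap x).left) := by
  obtain ⟨U, _, u, hu1, hu2, hu3, hu4, hu5⟩ := Groth.Agent.Sga3B.RedIdComp.exists_redIdComp G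
  have hum : Mono u := Groth.Agent.Books.AlgPtsGrp.mono_of_isClosedImmersion u
  have hUq : QuasiCompact U.hom := by rw [← Over.w u]; infer_instance
  set R : Set X.left := Set.range (u ≫ a.orbitMap x).left with hR
  have hRc : IsClosed R := by
    rw [hR, ← orbitMap_restrict]
    exact isClosed_smooth (a.restrict u) x (h.restrict u)
  have hcomp : CompactSpace G.left := QuasiCompact.compactSpace_of_compactSpace G.hom
  have hln : IsLocallyNoetherian G.left := LocallyOfFiniteType.isLocallyNoetherian G.hom
  have hN : IsNoetherian G.left := {}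
  have hns : TopologicalSpace.NoetherianSpace G.left := inferInstance
  have hfin : (irreducibleComponents G.left).Finite := TopologicalSpace.NoetherianSpace.finite_irreducibleComponents
  have hex : ∀ Z ∈ irreducibleComponents G.left, ∃ g : 𝟙_ (Over (Spec (CommRingCat.of K))) ⟶ G, pt g ∈ Z := by
    intro Z hZ
    exact exists_pt_mem (X := G) hZ.1.nonempty (isClosed_of_mem_irreducibleComponents Z hZ).isLocallyClosed
  choose! g hg using hex
  have key : Set.range (a.orbitMap x).left = ⋃ Z ∈ irreducibleComponents G.left, (tr a (g Z)⁻¹).left ⁻¹' R := by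
    have e1 : ∀ (h : 𝟙_ (Over (Spec (CommRingCat.of K))) ⟶ G) (y : G.left),
        (tr a h).left ((a.orbitMap x).left y) = (a.orbitMap x).left ((ltr h).left y) := by
      intro h y
      rw [← Scheme.Hom.comp_apply, ← Scheme.Hom.comp_apply, ← Over.comp_left, ← Over.comp_left, ltr_orbitMap]
    ext z
    rw [Set.mem_iUnion₂]
    constructor
    · rintro ⟨y, rfl⟩
      have hZ : irreducibleComponent y ∈ irreducibleComponents G.left := irreducibleComponent_mem_irreducibleComponents y
      refine ⟨irreducibleComponent y, hZ, ?_⟩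
      set c := g (irreducibleComponent y) with hc
      have h1 : y ∈ connectedComponent (pt c) :=
        hZ.1.2.isPreconnected.subset_connectedComponent (hg _ hZ) mem_irreducibleComponent
      have h2 : (ltr c⁻¹).left (pt c) = pt η[G] := by
        rw [← pt_comp, ltr, comp_tr, sm_leftAct, toUnit_unique (toUnit (𝟙_ (Over (Spec (CommRingCat.of K))))) (𝟙 _),
          Category.id_comp, inv_mul_cancel, Hom.one_def,
          toUnit_unique (toUnit (𝟙_ (Over (Spec (CommRingCat.of K))))) (𝟙 _), Category.id_comp]
      have h3 : (ltr c⁻¹).left y ∈ connectedComponent (pt η[G]) := by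
        rw [← h2]
        exact (ltr c⁻¹).left.continuous.image_connectedComponent_subset (pt c) ⟨y, h1, rfl⟩
      rw [← hu5] at h3
      obtain ⟨w, hw⟩ := h3
      refine ⟨w, ?_⟩
      rw [e1, ← hw, ← Scheme.Hom.comp_apply, ← Over.comp_left]
    · rintro ⟨Z, hZ, w, hw⟩
      refine ⟨(ltr (g Z)).left (u.left w), ?_⟩
      rw [← e1]
      have h4 : (a.orbitMap x).left (u.left w) = (u ≫ a.orbitMap x).left w := by
        rw [← Scheme.Hom.comp_apply, ← Over.comp_left]
      rw [h4, hw, ← Scheme.Hom.comp_apply, ← Over.comp_left, ← tr_mul, mul_inv_cancel, tr_one]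
      rfl
  rw [key]
  exact hfin.isClosed_biUnion fun Z _ => hRc.preimage (tr a (g Z)⁻¹).left.continuous

end Alg

end K406.OrbFin
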