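import Groth.Agent.AlgGrp.K406.SolvOrb
import Groth.Agent.AGF.K497.OrbClos
import Groth.Agent.Sga3B.ParBc
import Groth.Agent.Sga3B.RG.BrTorus
import Groth.Agent.Sga3B.RG.SolvLine
import Groth.Agent.Agf.H582.ConjDict
import Groth.Agent.S3279
import Groth.Agent.S3899
import Groth.Agent.AGF.K492.Basic

/-!
# Closed orbits: reductions
-/

set_option autoImplicit false
universe u
open CategoryTheory MonoidalCategory CartesianMonoidalCategory MonObj GrpObj AlgebraicGeometry WithConv

namespace K406.OrbRed

section General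

variable {S : Scheme.{u}} {G H X Y : Over S} [GrpObj G] [GrpObj H] (a : AlgGrp.Action G X)
  (x : 𝟙_ (Over S) ⟶ X)

/-- If the quotient by a subgroup is universally closed, and the orbit under the subgroup is closed, then the orbit is
closed. -/
theorem isClosed_of_subgroup [UniversallyOpen G.hom] [UniversallyOpen H.hom] (i : H ⟶ G) [IsMonHom i]
    (π : G ⟶ Y) (hπ : IsPullback (fst G H) ((G ◁ i) ≫ μ[G]) π π) [Surjective π.left]
    [UniversallyOpen π.left] [UniversallyClosed Y.hom]
    (h : IsClosed (Set.range (i ≫ a.orbitMap x).left)) : IsClosed (Set.range (a.orbitMap x).left) := by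
  have h1 := K497.OrbClos.closure_orbit a i π hπ x
  rw [h.closure_eq] at h1
  apply isClosed_of_closure_subset
  rw [h1]
  rintro _ ⟨w, ⟨g, hg⟩, rfl⟩
  exact K497.OrbClos.snd_mem_imp a x w ⟨i.left g, by rw [← hg, ← K497.OrbClos.comp_apply]⟩

/-- all tori fix `x` -/
def FixTori : Prop :=
  ∀ (T : Over S) [GrpObj T] (i : T ⟶ G) [IsMonHom i], Mono i → Red.IsTorus T → i ≫ a.orbitMap x = toUnit T ≫ x

theorem orbitMap_restrict (j : H ⟶ G) [IsMonHom j] : (a.restrict j).orbitMap x = j ≫ a.orbitMap x := by
  have h1 := AlgGrp.Action.comp_orbitMap (a.restrict j) (𝟙 H) x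
  have h2 := AlgGrp.Action.comp_orbitMap a j x
  rw [Category.id_comp] at h1
  rw [h1, h2, AlgGrp.Action.lift_restrict_act, Category.id_comp]

variable {a x} in
theorem FixTori.restrict (h : FixTori a x) (j : H ⟶ G) [IsMonHom j] [Mono j] : FixTori (a.restrict j) x := by
  intro T _ i _ _ hT
  have h1 := h T (i ≫ j) inferInstance hT
  rw [orbitMap_restrict, ← Category.assoc, h1]

end General

section Solv

variable {K : Type u} [Field K] [IsAlgClosed K]

open Groth.Agent.Sga3B.RG Groth.Agent.Books.AffBridge Groth.Agent.Books.AffBridge2 Groth.Agent.Sga3B.RG.BrPts Groth.Agent.Sga3B.RG.BrTorus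

/-- Solvable affine groups. -/
theorem isClosed_solv {G X : Over (Spec (CommRingCat.of K))} [GrpObj G] [IsAffine G.left] [Smooth G.hom]
    [ConnectedSpace G.left] (hsol : Red.IsSolvableGrp G) [LocallyOfFiniteType X.hom] [X.left.IsQuasiAffine]
    (a : AlgGrp.Action G X) (x : 𝟙_ (Over (Spec (CommRingCat.of K))) ⟶ X) (h : FixTori a x) :
    IsClosed (Set.range (a.orbitMap x).left) := by
  obtain ⟨A, _, _, e, he, hft, hdom⟩ := Groth.Agent.Agf.H582.ConjDict.exists_hopf_of_connected (K := K) G
  have hsol' : Group.IsSolvable (Pt K A) := by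
    obtain ⟨n, hn⟩ := Groth.Agent.Sga3B.ParBc.isSolvableGrp_of_iso (Grp.mkIso' e) hsol
    have h2 : Group.IsSolvable (𝟙_ (Over (Spec (CommRingCat.of K))) ⟶ SpecOver K A) := ⟨⟨n, hn _⟩⟩
    exact Group.isSolvable_of_surjective (f := (ptEquiv K A).symm.toMonoidHom) (ptEquiv K A).symm.surjective
  have htrig : Trig.IsTrig K A :=
    Trig.isTrig_of_simple fun V _ _ _ ρ hρ hs => SolvLine.finrank_eq_one hsol' hρ hs
  have hei : IsMonHom e.inv := inferInstance
  have hfix : FixTori (a.restrict e.inv) x := h.restrict e.inv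
  have key : IsClosed (Set.range ((a.restrict e.inv).orbitMap x).left) := by
    apply K406.SolvOrb.isClosed_orbit (a.restrict e.inv) x htrig
    intro r π hπ t
    have h1 : IsMonHom (specMap K (π : A →ₐ[K] KZ K r)) := isMonHom_specMap K π
    have h2 : IsClosedImmersion (specMap K (π : A →ₐ[K] KZ K r)).left := (isClosedImmersion_specMap_iff K _).2 hπ
    have h3 : Mono (specMap K (π : A →ₐ[K] KZ K r)) := Groth.Agent.Books.AlgPtsGrp.mono_of_isClosedImmersion _
    have h4 := hfix _ (specMap K (π : A →ₐ[K] KZ K r)) h3 (isTorus_KZ r)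
    have h5 : K406.SolvOrb.pp (Pt.map π t) = K406.SolvOrb.pp t ≫ specMap K (π : A →ₐ[K] KZ K r) := by
      rw [K406.SolvOrb.pp, K406.SolvOrb.pp, Category.assoc, ← specMap_comp]
      rfl
    have h6 : K406.SolvOrb.sp (a.restrict e.inv) (Pt.map π t) x =
        K406.SolvOrb.pp (Pt.map π t) ≫ (a.restrict e.inv).orbitMap x := by
      rw [AlgGrp.Action.comp_orbitMap, toUnit_unique (toUnit (𝟙_ (Over (Spec (CommRingCat.of K))))) (𝟙 _),
        Category.id_comp]
      rfl
    rw [h6, h5, Category.assoc, h4, ← Category.assoc, toUnit_unique (_ ≫ toUnit _) (𝟙 _), Category.id_comp]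
  rw [orbitMap_restrict, Over.comp_left, Scheme.Hom.comp_base, TopCat.coe_comp] at key
  have : IsIso e.inv.left := (Over.forget _).map_isIso e.inv
  rwa [Function.Surjective.range_comp e.inv.left.surjective] at key

end Solv

section Aff

variable {K : Type u} [Field K] [IsAlgClosed K]

instance instUO (X : Over (Spec (CommRingCat.of K))) : UniversallyOpen X.hom := by
  have hI : IsIntegral (Spec (CommRingCat.of K)) := inferInstance
  infer_instance

/-- Affine groups. -/
theorem isClosed_aff {G X : Over (Spec (CommRingCat.of K))} [GrpObj G] [IsAffine G.left] [Smooth G.hom]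
    [ConnectedSpace G.left] [LocallyOfFiniteType X.hom] [X.left.IsQuasiAffine]
    (a : AlgGrp.Action G X) (x : 𝟙_ (Over (Spec (CommRingCat.of K))) ⟶ X) (h : FixTori a x) :
    IsClosed (Set.range (a.orbitMap x).left) := by
  obtain ⟨B, _, b, hb⟩ := K492.Basic.exists_isBorelOver G
  obtain ⟨hb1, hb2, hb3, hb4, hb5, -⟩ := id hb
  have hbm : Mono b := Groth.Agent.Books.AlgPtsGrp.mono_of_isClosedImmersion b
  have hBaff : IsAffine B.left := isAffine_of_isAffineHom b.left
  have hqB : QuasiCompact B.hom := inferInstance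
  obtain ⟨Y, c, o, hY1, hY2, hY3, hY4, hY5⟩ := Groth.Agent.S3279.result K G B b
  have hpr : IsProper Y.hom := Groth.Agent.S3899.result K G B b hb Y c o ⟨hY1, hY3, hY4, hY5⟩
  have hqG : QuasiCompact G.hom := inferInstance
  have hlfp : LocallyOfFinitePresentation (c.orbitMap o).left := by
    have h1 : LocallyOfFiniteType ((c.orbitMap o).left ≫ Y.hom) := by
      rw [Over.w]; infer_instance
    have h2 : LocallyOfFiniteType (c.orbitMap o).left := locallyOfFiniteType_of_comp (c.orbitMap o).left Y.hom
    have hn : IsLocallyNoetherian Y.left := LocallyOfFiniteType.isLocallyNoetherian Y.hom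
    exact LocallyOfFinitePresentation.iff_locallyOfFiniteType.2 h2
  apply isClosed_of_subgroup a x b (c.orbitMap o) hY5
  rw [← orbitMap_restrict]
  exact isClosed_solv hb5 (a.restrict b) x (h.restrict b)

end Aff

end K406.OrbRed
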