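import Groth.Agent.Sga3B.RG.TrigTorus
import Groth.Agent.Books.BorelOrb3
import Groth.Agent.Books.AffBridge
import Groth.Agent.AlgGrp.K406.UnitsGeom
import Groth.Agent.AlgGrp.K395.OrbLC
import Mathlib.AlgebraicGeometry.QuasiAffine

/-!
# Orbits of trigonalizable groups on quasi-affine schemes

`isClosed_orbit`: `Spec A` connected trigonalizable over an algebraically closed field, acting on the quasi-affine
scheme `X`, `x` a rational point fixed by all tori: the orbit of `x` is closed (Kostant-Rosenlicht).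
-/

set_option autoImplicit false
universe u
open CategoryTheory MonoidalCategory CartesianMonoidalCategory MonObj GrpObj AlgebraicGeometry WithConv

namespace K406.SolvOrb

open Groth.Agent.Sga3B.RG Groth.Agent.Sga3B.RG.Trig Groth.Agent.Sga3B.RG.TrigTorus Groth.Agent.Sga3B.RG.CentralPt
open Groth.Agent.Books.AffBridge Groth.Agent.Books.BorelOrb K406.UnitsGeom

attribute [local instance] K406.UnitsGeom.algΓ

noncomputable section

variable {K : Type u} [Field K]

section pts

variable {X Y : Over (Spec (CommRingCat.of K))}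

theorem ev_comp (p : 𝟙_ (Over (Spec (CommRingCat.of K))) ⟶ X) (φ : X ⟶ Y) (f : Γ(Y.left, ⊤)) :
    ev (p ≫ φ) f = ev p (pull φ f) := by
  change (Scheme.ΓSpecIso (CommRingCat.of K)).hom.hom (pull (p ≫ φ) f) = _
  rw [pull_comp]
  rfl

theorem mem_basicOpen_iff (p : 𝟙_ (Over (Spec (CommRingCat.of K))) ⟶ X) (f : Γ(X.left, ⊤)) :
    p.left (IsLocalRing.closedPoint K) ∈ X.left.basicOpen f ↔ ev p f ≠ 0 := by
  have h1 : p.left (IsLocalRing.closedPoint K) ∈ X.left.basicOpen f ↔
      IsLocalRing.closedPoint K ∈ (Spec (CommRingCat.of K)).basicOpen (p.left.appTop f) := by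
    rw [← Scheme.preimage_basicOpen_top]
    rfl
  rw [h1, basicOpen_eq_of_affine']
  change (Scheme.ΓSpecIso (CommRingCat.of K)).hom.hom (p.left.appTop f) ∉ (IsLocalRing.closedPoint K).asIdeal ↔ _
  have h2 : (IsLocalRing.closedPoint K).asIdeal = ⊥ := IsLocalRing.maximalIdeal_eq_bot
  rw [h2, Ideal.mem_bot]
  rfl

variable (A : Type u) [CommRing A]

section alg

variable [Algebra K A]

/-- functions on `Spec A` -/
def fromΓ : Γ((SpecOver K A).left, ⊤) →+* A := (Scheme.ΓSpecIso (CommRingCat.of A)).hom.hom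

variable (K) in
/-- the point as the spectrum of the field -/
def uIso : 𝟙_ (Over (Spec (CommRingCat.of K))) ⟶ SpecOver K K :=
  Over.homMk (𝟙 _) (by
    change 𝟙 _ ≫ Spec.map (CommRingCat.ofHom (algebraMap K K)) = 𝟙 _
    rw [Category.id_comp]
    exact Spec.map_id _)

end alg

variable {A}

/-- the rational point of `Spec A` -/
def pp [HopfAlgebra K A] (g : Pt K A) : 𝟙_ (Over (Spec (CommRingCat.of K))) ⟶ SpecOver K A :=
  uIso K ≫ specMap K g.ofConv

theorem ev_pp [HopfAlgebra K A] (g : Pt K A) (f : Γ((SpecOver K A).left, ⊤)) : ev (pp g) f = g (fromΓ A f) := by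
  have h1 : (pp g).left = Spec.map (CommRingCat.ofHom g.ofConv.toRingHom) := by
    simp only [pp, Over.comp_left]
    exact Category.id_comp _
  change (Scheme.ΓSpecIso (CommRingCat.of K)).hom.hom ((pp g).left.appTop f) =
    g ((Scheme.ΓSpecIso (CommRingCat.of A)).hom.hom f)
  rw [h1]
  exact congr($(Scheme.ΓSpecIso_naturality (CommRingCat.ofHom g.ofConv.toRingHom)).hom f)

theorem pp_surjective [HopfAlgebra K A] : Function.Surjective (pp (K := K) (A := A)) := by
  intro p
  let q : SpecOver K K ⟶ SpecOver K A := Over.homMk p.left (by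
    refine (Over.w p).trans ?_
    change 𝟙 _ = Spec.map (CommRingCat.ofHom (algebraMap K K))
    exact (Spec.map_id _).symm)
  refine ⟨toConv (specPreimage K q), ?_⟩
  rw [pp, ofConv_toConv, specMap_specPreimage]
  ext1
  exact Category.id_comp _

theorem pp_mul [HopfAlgebra K A] (g h : Pt K A) : pp (g * h) = pp g * pp h := by
  rw [pp, specMap_mul, MonObj.comp_mul]
  rfl

theorem pp_one [HopfAlgebra K A] : pp (1 : Pt K A) = 1 := by
  rw [pp, specMap_one, MonObj.comp_one]

theorem pp_inv [HopfAlgebra K A] (g : Pt K A) : pp g⁻¹ = (pp g)⁻¹ := by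
  rw [eq_inv_iff_mul_eq_one, ← pp_mul, inv_mul_cancel, pp_one]

end pts

section main

variable {A : Type u} [CommRing A] [HopfAlgebra K A]
variable {X : Over (Spec (CommRingCat.of K))} (a : AlgGrp.Action (SpecOver K A) X)
  (x : 𝟙_ (Over (Spec (CommRingCat.of K))) ⟶ X)

/-- the action of a point -/
abbrev sp (g : Pt K A) (z : 𝟙_ (Over (Spec (CommRingCat.of K))) ⟶ X) : 𝟙_ (Over (Spec (CommRingCat.of K))) ⟶ X :=
  sm a (pp g) z

theorem sp_mul (g h : Pt K A) (z : 𝟙_ (Over (Spec (CommRingCat.of K))) ⟶ X) : sp a (g * h) z = sp a g (sp a h z) := by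
  rw [sp, pp_mul, mul_sm]

theorem sp_one (z : 𝟙_ (Over (Spec (CommRingCat.of K))) ⟶ X) : sp a 1 z = z := by
  rw [sp, pp_one, one_sm]

theorem comp_tr_pp (g : Pt K A) (z : 𝟙_ (Over (Spec (CommRingCat.of K))) ⟶ X) : z ≫ tr a (pp g) = sp a g z := by
  rw [comp_tr, toUnit_unique (toUnit (𝟙_ (Over (Spec (CommRingCat.of K))))) (𝟙 _), Category.id_comp]

/-- `b ↦ b⁻¹ x` -/
def om : SpecOver K A ⟶ X := ι[SpecOver K A] ≫ a.orbitMap x

theorem pp_om (g : Pt K A) : pp g ≫ om a x = sp a g⁻¹ x := by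
  rw [om, ← Category.assoc, ← Hom.inv_def, ← pp_inv, comp_orbitMap,
    toUnit_unique (toUnit (𝟙_ (Over (Spec (CommRingCat.of K))))) (𝟙 _), Category.id_comp]

/-- functions on the orbit -/
def Phi : Γ(X.left, ⊤) →+* A := (fromΓ A).comp (pull (om a x)).toRingHom

theorem pt_Phi (g : Pt K A) (f : Γ(X.left, ⊤)) : g (Phi a x f) = ev (sp a g⁻¹ x) f := by
  rw [← pp_om, ev_comp, ev_pp]
  rfl

variable [IsAlgClosed K] [Algebra.FiniteType K A]

/-- the space of functions on the orbit which come from functions on `X` vanishing at the points of `P` -/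
def M [IsReduced A] (P : (𝟙_ (Over (Spec (CommRingCat.of K))) ⟶ X) → Prop) : Submodule K A where
  carrier := {F | ∃ f : Γ(X.left, ⊤), (∀ z, P z → ev z f = 0) ∧ F = Phi a x f}
  add_mem' := by
    rintro _ _ ⟨f, hf, rfl⟩ ⟨g, hg, rfl⟩
    exact ⟨f + g, fun z hz => by rw [map_add, hf z hz, hg z hz, add_zero], by rw [map_add]⟩
  zero_mem' := ⟨0, fun z _ => map_zero _, by rw [map_zero]⟩
  smul_mem' := by
    rintro c _ ⟨f, hf, rfl⟩
    refine ⟨algebraMap K _ c * f, fun z hz => by rw [map_mul, hf z hz, mul_zero], ?_⟩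
    apply eq_of_forall_pt (K := K)
    intro g
    rw [pt_Phi, map_mul, AlgHom.commutes]
    have h1 : g (c • Phi a x f) = c • g (Phi a x f) := map_smul g.ofConv _ _
    rw [h1, pt_Phi]
    rfl

theorem rTr_mem_M [IsReduced A] {P : (𝟙_ (Over (Spec (CommRingCat.of K))) ⟶ X) → Prop}
    (hP : ∀ (g : Pt K A) z, P z → P (sp a g z)) (g : Pt K A) {F : A} (hF : F ∈ M a x P) : rTr g F ∈ M a x P := by
  obtain ⟨f, hf, rfl⟩ := hF
  refine ⟨pull (tr a (pp g⁻¹)) f, fun z hz => ?_, ?_⟩
  · rw [← ev_comp, comp_tr_pp]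
    exact hf _ (hP _ _ hz)
  · apply eq_of_forall_pt (K := K)
    intro h
    rw [rTr_apply_pt, pt_Phi, pt_Phi, ← ev_comp, comp_tr_pp, ← sp_mul, _root_.mul_inv_rev]

/-- an invariant function -/
theorem exists_invariant [IsDomain A] (hT : IsTrig K A)
    (P : (𝟙_ (Over (Spec (CommRingCat.of K))) ⟶ X) → Prop) (hP : ∀ (g : Pt K A) z, P z → P (sp a g z))
    (f₀ : Γ(X.left, ⊤)) (hf₀ : ∀ z, P z → ev z f₀ = 0) (hx : ev x f₀ ≠ 0)
    (htor : ∀ (r : ℕ) (π : A →ₐc[K] MonoidAlgebra K (Multiplicative (Fin r → ℤ))), Function.Surjective π →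
      ∀ t : Pt K (MonoidAlgebra K (Multiplicative (Fin r → ℤ))), sp a (Pt.map π t) x = x) :
    ∃ f : Γ(X.left, ⊤), (∀ z, P z → ev z f = 0) ∧ ev x f ≠ 0 ∧ ∀ g : Pt K A, ev (sp a g x) f = ev x f := by
  obtain ⟨W, hW, hfin, hsW⟩ := exists_finite_stable (K := K) (A := A) {Phi a x f₀}
  let V : Submodule K A := M a x P ⊓ W
  have hV : IsStable (rTrRep K A) V := fun g w hw => ⟨rTr_mem_M a x hP g hw.1, hW g w hw.2⟩
  have hfinV : Module.Finite K V := Submodule.finiteDimensional_of_le (inf_le_right : V ≤ W)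
  have hmem : Phi a x f₀ ∈ V := ⟨⟨f₀, hf₀, rfl⟩, hsW _ (Finset.mem_singleton_self _)⟩
  have hne : Phi a x f₀ ≠ 0 := by
    intro h0
    apply hx
    have h1 := pt_Phi a x 1 f₀
    rw [h0, inv_one, sp_one] at h1
    rw [← h1]
    exact map_zero (1 : Pt K A).ofConv
  have hnt : Nontrivial V := ⟨⟨⟨_, hmem⟩, 0, fun h => hne (congrArg Subtype.val h)⟩⟩
  have halg : IsAlg (subRep (rTrRep K A) V hV) := isAlg_subRep isAlg_rTrRep V hV
  obtain ⟨v, hv0, hv⟩ := hT V (subRep (rTrRep K A) V hV) halg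
  obtain ⟨χ, hχ⟩ := exists_groupLike halg hv0 hv
  obtain ⟨f, hf, hvf⟩ := v.2.1
  have hχ' : ∀ g : Pt K A, rTr g (v : A) = (g χ.val) • (v : A) := fun g => congrArg Subtype.val (hχ g)
  have hval : ∀ g : Pt K A, g (v : A) = g χ.val * (1 : Pt K A) (v : A) := by
    intro g
    have h1 := rTr_apply_pt g 1 (v : A)
    rw [_root_.one_mul, hχ'] at h1
    rw [← h1]
    exact map_smul (1 : Pt K A).ofConv _ _
  have hone : (1 : Pt K A) (v : A) = ev x f := by rw [hvf, pt_Phi, inv_one, sp_one]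
  have hne1 : ev x f ≠ 0 := by
    intro h0
    apply hv0
    apply Subtype.ext
    apply eq_zero_of_forall_pt (K := K)
    intro g
    rw [hval, hone, h0, mul_zero]
  -- the character is trivial
  obtain ⟨r, e, π, hsurj, hπ⟩ := exists_torusMap hT
  have h1 : ∀ s : Pt K (MonoidAlgebra K (Multiplicative (Fin r → ℤ))), s (MonoidAlgebra.single (e χ) 1) = 1 := by
    intro s
    have h2 := hval (Pt.map π s)
    have h3 : (Pt.map π s) (v : A) = ev x f := by
      rw [hvf, pt_Phi, ← map_inv, htor r π hsurj]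
    rw [h3, hone, Pt.map_apply, hπ] at h2
    exact (mul_right_cancel₀ hne1 ((_root_.one_mul _).trans h2)).symm
  have hft : Algebra.FiniteType K (MonoidAlgebra K (Multiplicative (Fin r → ℤ))) :=
    Algebra.FiniteType.of_surjective (π : A →ₐ[K] MonoidAlgebra K (Multiplicative (Fin r → ℤ))) hsurj
  have h2 : (MonoidAlgebra.single (e χ) 1 : MonoidAlgebra K (Multiplicative (Fin r → ℤ))) = 1 := by
    apply eq_of_forall_pt (K := K)
    intro s
    rw [h1]
    exact (map_one s.ofConv).symm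
  have h3 : e χ = 1 := MonoidAlgebra.single_left_injective (R := K) one_ne_zero h2
  have h4 : χ = 1 := by rwa [map_eq_one_iff e e.injective] at h3
  refine ⟨f, hf, hne1, fun g => ?_⟩
  have h5 := hval g⁻¹
  rw [hone, hvf, pt_Phi, _root_.inv_inv, h4] at h5
  rw [h5]
  have h6 : (g⁻¹ : Pt K A) (1 : GroupLike K A).val = 1 := map_one (g⁻¹ : Pt K A).ofConv
  rw [h6, _root_.one_mul]

open Groth.Agent.Books.AlgPts in
/-- The orbit of a point which is fixed by all tori under a connected trigonalizable group is closed in a quasi-affine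
scheme. -/
theorem isClosed_orbit [IsDomain A] (hT : IsTrig K A) [LocallyOfFiniteType X.hom] [X.left.IsQuasiAffine]
    (htor : ∀ (r : ℕ) (π : A →ₐc[K] MonoidAlgebra K (Multiplicative (Fin r → ℤ))), Function.Surjective π →
      ∀ t : Pt K (MonoidAlgebra K (Multiplicative (Fin r → ℤ))), sp a (Pt.map π t) x = x) :
    IsClosed (Set.range (a.orbitMap x).left) := by
  have hft : LocallyOfFiniteType (SpecOver K A).hom := by
    change LocallyOfFiniteType (Spec.map (CommRingCat.ofHom (algebraMap K A)))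
    rw [HasRingHomProperty.Spec_iff (P := @LocallyOfFiniteType)]
    exact (RingHom.finiteType_algebraMap (A := K) (B := A)).mpr ‹_›
  have hqc : QuasiCompact (SpecOver K A).hom := by
    change QuasiCompact (Spec.map (CommRingCat.ofHom (algebraMap K A)))
    infer_instance
  set R : Set X.left := Set.range (a.orbitMap x).left with hR
  have hlc : IsLocallyClosed R := K395.OrbLC.isLocallyClosed_range _ X a x
  have hZ : IsClosed (closure R \ R) := by
    rw [← isOpen_compl_iff]
    exact isLocallyClosed_iff_isOpen_coborder.1 hlc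
  set Z : Set X.left := closure R \ R with hZdef
  have hptR : ∀ g : Pt K A, pt (sp a g x) ∈ R := by
    intro g
    refine ⟨pt (pp g), ?_⟩
    rw [← pt_comp, comp_orbitMap, toUnit_unique (toUnit (𝟙_ (Over (Spec (CommRingCat.of K))))) (𝟙 _), Category.id_comp]
  have hst : ∀ (g : Pt K A) (z : X.left), z ∈ R → (tr a (pp g)).left z ∈ R := by
    rintro g _ ⟨b, rfl⟩
    refine ⟨(ltr (pp g)).left b, ?_⟩
    rw [← Scheme.Hom.comp_apply, ← Scheme.Hom.comp_apply, ← Over.comp_left, ← Over.comp_left, ltr_orbitMap]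
  have hstc : ∀ (g : Pt K A) (z : X.left), z ∈ closure R → (tr a (pp g)).left z ∈ closure R := by
    intro g z hz
    exact map_mem_closure (tr a (pp g)).left.continuous hz (fun z hz => hst g z hz)
  have hinv : ∀ (g : Pt K A) (z : X.left), (tr a (pp g⁻¹)).left ((tr a (pp g)).left z) = z := by
    intro g z
    rw [← Scheme.Hom.comp_apply, ← Over.comp_left, ← tr_mul, ← pp_mul, inv_mul_cancel, pp_one, tr_one]
    rfl
  have hstZ : ∀ (g : Pt K A) (z : X.left), z ∈ Z → (tr a (pp g)).left z ∈ Z := by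
    rintro g z ⟨h1, h2⟩
    refine ⟨hstc g z h1, fun h3 => h2 ?_⟩
    have := hst g⁻¹ _ h3
    rwa [hinv] at this
  by_contra hcl
  have hZne : Z.Nonempty := by
    by_contra h0
    apply hcl
    rw [Set.not_nonempty_iff_eq_empty, hZdef, Set.diff_eq_empty] at h0
    exact isClosed_of_closure_subset h0
  have hxR : pt x ∈ R := by
    have := hptR 1
    rwa [sp_one] at this
  have hxZ : pt x ∉ Z := fun h => h.2 hxR
  obtain ⟨_, ⟨_, ⟨f₀, -, rfl⟩, rfl⟩, hxf, hf₀⟩ := (Scheme.IsQuasiAffine.isBasis_basicOpen X.left).exists_subset_of_mem_open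
    (show pt x ∈ Zᶜ from hxZ) hZ.isOpen_compl
  obtain ⟨f, hf, hfx, hinvf⟩ := exists_invariant a x hT (fun z => pt z ∈ Z) (fun g z hz => by
      have := hstZ g _ hz
      rw [← pt_comp, comp_tr_pp] at this
      exact this) f₀ (fun z hz => by
      by_contra h0
      exact hf₀ ((mem_basicOpen_iff z f₀).2 h0) hz) ((mem_basicOpen_iff x f₀).1 hxf) htor
  set c : Γ(X.left, ⊤) := algebraMap K _ (ev x f) with hc
  have hV : R ⊆ (X.left.basicOpen (f - c) : Set X.left)ᶜ := by
    rintro _ ⟨b, rfl⟩ hb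
    obtain ⟨p, hp⟩ := exists_pt_mem (X := SpecOver K A) (U := (a.orbitMap x).left ⁻¹' (X.left.basicOpen (f - c)))
      ⟨b, hb⟩ ((X.left.basicOpen (f - c)).isOpen.preimage (a.orbitMap x).left.continuous).isLocallyClosed
    obtain ⟨g, rfl⟩ := pp_surjective p
    rw [Set.mem_preimage, ← pt_comp, comp_orbitMap,
      toUnit_unique (toUnit (𝟙_ (Over (Spec (CommRingCat.of K))))) (𝟙 _), Category.id_comp] at hp
    apply (mem_basicOpen_iff (sp a g x) (f - c)).1 hp
    rw [map_sub, hinvf, hc, AlgHom.commutes]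
    exact sub_self _
  have hVc : closure R ⊆ (X.left.basicOpen (f - c) : Set X.left)ᶜ :=
    closure_minimal hV (X.left.basicOpen (f - c)).isOpen.isClosed_compl
  obtain ⟨z, hz⟩ := exists_pt_mem (X := X) hZne hZ.isLocallyClosed
  apply hVc hz.1
  refine (mem_basicOpen_iff z (f - c)).2 ?_
  rw [map_sub, hf z hz, hc, AlgHom.commutes, zero_sub]
  exact neg_ne_zero.2 hfx

end main

end

end K406.SolvOrb
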