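import Groth.Agent.AlgGrp.K406.Basics
import Groth.Agent.Localalg.CartierSch
import Groth.Agent.Sga3B.KerGrp

/-!
# Group schemes with trivial geometric points and trivial tangent space
-/

set_option autoImplicit false
universe u
open CategoryTheory CategoryTheory.Limits MonoidalCategory CartesianMonoidalCategory MonObj GrpObj AlgebraicGeometry

namespace K406.TanMono

open Groth.Agent

/-- A noetherian local `k`-algebra with a rational point and no tangent vectors is `k`. -/
theorem bijective_of_tangent (k : Type u) [Field k] (R : Type u) [CommRing R] [Algebra k R] [IsNoetherianRing R]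
    [IsLocalRing R] (x : R →ₐ[k] k)
    (h : ∀ φ : R →ₐ[k] DualNumber k, (∀ a, (φ a).fst = x a) → ∀ a, (φ a).snd = 0) :
    Function.Bijective (algebraMap k R) := by
  have hxs : Function.Surjective x := fun c => ⟨algebraMap k R c, x.commutes c⟩
  have hmax : (RingHom.ker x.toRingHom).IsMaximal := RingHom.ker_isMaximal_of_surjective x.toRingHom hxs
  have hm : RingHom.ker x.toRingHom = IsLocalRing.maximalIdeal R := IsLocalRing.eq_maximalIdeal hmax
  have hx : ∀ f, x f = 0 ↔ f ∈ IsLocalRing.maximalIdeal R := fun f => by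
    rw [← hm]; exact Iff.rfl
  have h1 : ∀ f ∈ IsLocalRing.maximalIdeal R, f ∈ IsLocalRing.maximalIdeal R ^ 2 := by
    intro f hf
    have h2 : (IsLocalRing.maximalIdeal R).toCotangent ⟨f, hf⟩ = 0 := by
      rw [← Module.forall_dual_apply_eq_zero_iff k]
      intro t
      have := h (Localalg.CartierSch.tangent (IsLocalRing.maximalIdeal R) x hx t) (fun a => by
        simp [Localalg.CartierSch.tangent]) f
      simpa [Localalg.CartierSch.tangent, Localalg.CartierSch.dd_of_mem _ x hx f hf] using this
    exact (Ideal.toCotangent_eq_zero _ _).mp h2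
  have h2 : IsLocalRing.maximalIdeal R = ⊥ := by
    refine Submodule.eq_bot_of_le_smul_of_le_jacobson_bot (IsLocalRing.maximalIdeal R) _
      (IsNoetherian.noetherian _) ?_ ?_
    · intro f hf
      have := h1 f hf
      rw [pow_two] at this
      exact this
    · exact (IsLocalRing.jacobson_eq_maximalIdeal ⊥ bot_ne_top).ge
  refine ⟨(algebraMap k R).injective, fun f => ⟨x f, ?_⟩⟩
  have h3 := Localalg.CartierSch.sub_mem (IsLocalRing.maximalIdeal R) x hx f
  rw [h2, Ideal.mem_bot, sub_eq_zero] at h3
  exact h3.symm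

/-- A scheme of finite type over a field with a single point and no tangent vectors at a rational point is
the base. -/
theorem isIso_of_tangent (k : Type u) [Field k] (N : Over (Spec (CommRingCat.of k))) [LocallyOfFiniteType N.hom]
    [Subsingleton N.left] (e : 𝟙_ (Over (Spec (CommRingCat.of k))) ⟶ N)
    (h : ∀ g : (Over.mk (Spec.map (CommRingCat.ofHom (algebraMap k (DualNumber k))))) ⟶ N,
      (∀ x : 𝟙_ (Over (Spec (CommRingCat.of k))) ⟶ (Over.mk (Spec.map (CommRingCat.ofHom (algebraMap k (DualNumber k))))),
        x ≫ g = e) → g = toUnit _ ≫ e) : IsIso N.hom := by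
  have hN := Basics.isLocallyNoetherian N.hom
  have hA : IsAffine N.left := inferInstance
  let A := Γ(N.left, ⊤)
  obtain ⟨ψ, hψ⟩ := Spec.map_surjective (N.left.isoSpec.inv ≫ N.hom)
  algebraize [ψ.hom]
  have hnoeth : IsNoetherianRing A := IsLocallyNoetherian.component_noetherian ⟨⊤, isAffineOpen_top N.left⟩
  have hsub : Subsingleton (PrimeSpectrum A) := by
    have e' : N.left ≃ₜ (Spec A) := Scheme.homeoOfIso N.left.isoSpec
    exact e'.symm.injective.subsingleton
  obtain ⟨x, hx⟩ := Spec.map_surjective (e.left ≫ N.left.isoSpec.hom)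
  have hxψ : ψ ≫ x = 𝟙 _ := by
    apply Spec.map_injective
    rw [Spec.map_comp, hx, hψ, Category.assoc, Iso.hom_inv_id_assoc, Spec.map_id]
    exact Over.w e
  let x' : A →ₐ[k] k := ⟨x.hom, fun r => congr($(hxψ).hom r)⟩
  have hnt : Nontrivial A := x'.toRingHom.domain_nontrivial
  have hloc : IsLocalRing A := by
    obtain ⟨m, hm⟩ := Ideal.exists_maximal A
    refine IsLocalRing.of_unique_max_ideal ⟨m, hm, fun m' hm' => ?_⟩
    have := hsub.elim ⟨m', hm'.isPrime⟩ ⟨m, hm.isPrime⟩
    exact congr($(this).asIdeal)
  have hbij : Function.Bijective (algebraMap k A) := by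
    apply bijective_of_tangent k A x'
    intro φ hφ a
    let g₀ : Spec (CommRingCat.of (DualNumber k)) ⟶ N.left :=
      Spec.map (CommRingCat.ofHom φ.toRingHom) ≫ N.left.isoSpec.inv
    let g : (Over.mk (Spec.map (CommRingCat.ofHom (algebraMap k (DualNumber k))))) ⟶ N :=
      Over.homMk g₀ (by
        change g₀ ≫ N.hom = Spec.map _
        simp only [g₀, Category.assoc]
        rw [← hψ, ← Spec.map_comp]
        congr 1
        ext a
        · exact congrArg TrivSqZeroExt.fst (φ.commutes a)
        · exact congrArg TrivSqZeroExt.snd (φ.commutes a))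
    have hg := h g (by
      intro y
      ext1
      rw [Over.comp_left]
      obtain ⟨y', hy'⟩ := Spec.map_surjective (y.left : Spec (CommRingCat.of k) ⟶ Spec (CommRingCat.of (DualNumber k)))
      have hy2 : CommRingCat.ofHom (algebraMap k (DualNumber k)) ≫ y' = 𝟙 _ := by
        apply Spec.map_injective
        rw [Spec.map_comp, hy', Spec.map_id]
        exact Over.w y
      rw [← hy']
      change Spec.map y' ≫ Spec.map _ ≫ _ = _
      rw [← cancel_mono N.left.isoSpec.hom, ← hx, Category.assoc, Category.assoc, Iso.inv_hom_id, Category.comp_id,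
        ← Spec.map_comp]
      congr 1
      ext a
      change y'.hom (φ a) = x' a
      have h1 : ∀ c : k, y'.hom (algebraMap k (DualNumber k) c) = c := fun c => congr($(hy2).hom c)
      have h2 : y'.hom DualNumber.eps = 0 := by
        have : y'.hom DualNumber.eps * y'.hom DualNumber.eps = 0 := by
          rw [← map_mul, DualNumber.eps_mul_eps, map_zero]
        exact mul_self_eq_zero.mp this
      have h3 : φ a = algebraMap k (DualNumber k) (φ a).fst + algebraMap k (DualNumber k) (φ a).snd * DualNumber.eps := by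
        ext <;> simp [TrivSqZeroExt.algebraMap_eq_inl']
      rw [h3, map_add, map_mul, h1, h1, h2, mul_zero, add_zero, hφ])
    have hg2 := congr($(hg).left ≫ N.left.isoSpec.hom)
    have hg3 : g.left ≫ N.left.isoSpec.hom = Spec.map (CommRingCat.ofHom φ.toRingHom) := by
      change (_ ≫ _) ≫ _ = _
      simp
    have hg4 : (toUnit (Over.mk (Spec.map (CommRingCat.ofHom (algebraMap k (DualNumber k))))) ≫ e).left ≫
        N.left.isoSpec.hom = Spec.map (x ≫ CommRingCat.ofHom (algebraMap k (DualNumber k))) := by
      rw [Over.comp_left, Category.assoc, ← hx, Spec.map_comp]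
      congr 1
    rw [hg3, hg4] at hg2
    have hg5 := congr($(Spec.map_injective hg2).hom a)
    have hg6 : φ a = algebraMap k (DualNumber k) (x' a) := hg5
    rw [hg6]
    simp [TrivSqZeroExt.algebraMap_eq_inl']
  have hψiso : IsIso ψ := by
    have : ψ = (RingEquiv.ofBijective (algebraMap k A) hbij).toCommRingCatIso.hom := rfl
    rw [this]
    infer_instance
  have : N.hom = N.left.isoSpec.hom ≫ Spec.map ψ := by rw [hψ, Iso.hom_inv_id_assoc]
  rw [this]
  infer_instance

/-- A homomorphism with trivial kernel is a monomorphism. -/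
theorem mono_of_isIso_ker {S : Scheme.{u}} {G H : Over S} [GrpObj G] [GrpObj H] (f : G ⟶ H) [IsMonHom f]
    (hN : IsIso (Sga3B.KerGrp.kerObj f).hom) : Mono f := by
  constructor
  intro T a b hab
  obtain ⟨e, he⟩ := Sga3B.KerGrp.exists_lift f η[G] (by rw [IsMonHom.one_hom]; exact one_eq_one _)
  obtain ⟨t, ht⟩ := Sga3B.KerGrp.exists_lift f (a⁻¹ * b) (by
    rw [MonObj.mul_comp, GrpObj.inv_comp, hab, inv_mul_cancel])
  have h1 : t = toUnit T ≫ e := by
    ext1
    rw [← cancel_mono (Sga3B.KerGrp.kerObj f).hom]
    rw [Over.w t, Over.w (toUnit T ≫ e)]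
  rw [h1, Category.assoc, he, ← Hom.one_def] at ht
  exact (inv_mul_eq_one.mp ht.symm)

end K406.TanMono
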