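import Groth.Agent.AlgGrp.K406.DegVal
import Groth.Agent.CycA.FinExtDomain
import Mathlib.RingTheory.NoetherNormalization
import Mathlib.RingTheory.Algebraic.Integral
import Mathlib.RingTheory.DedekindDomain.SelmerGroup
import Mathlib.RingTheory.DiscreteValuationRing.TFAE
import Mathlib.RingTheory.Valuation.LocalSubring
import Mathlib.RingTheory.Polynomial.UniqueFactorization
import Mathlib.FieldTheory.Minpoly.IsIntegrallyClosed
import Mathlib.FieldTheory.IsAlgClosed.Basic
import Mathlib.LinearAlgebra.FreeModule.PID

/-!
# The units of a finitely generated domain over an algebraically closed field modulo constants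
-/

set_option autoImplicit false
universe u

open MvPolynomial

namespace K406.UnitsFin

open DegVal IsDedekindDomain

/-- An element of a domain over an algebraically closed field that is integral over the field is constant. -/
theorem exists_algebraMap_eq (k : Type u) [Field k] [IsAlgClosed k] (A : Type u) [CommRing A] [IsDomain A]
    [Algebra k A] (a : A) (ha : IsIntegral k a) : ∃ c : k, algebraMap k A c = a := by
  have h3 : Function.Bijective (algebraMap k (integralClosure k A)) :=
    IsAlgClosed.algebraMap_bijective_of_isIntegral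
  obtain ⟨c, hc⟩ := h3.2 ⟨a, ha⟩
  exact ⟨c, congrArg Subtype.val hc⟩

section main

variable (k : Type u) [Field k] (n : ℕ) (A : Type u) [CommRing A] [IsDomain A] [Algebra k A]
  [Algebra (P k n) A] [IsScalarTower k (P k n) A] [FaithfulSMul (P k n) A] [Module.Finite (P k n) A]
  (L : Type u) [Field L] [Algebra A L] [IsFractionRing A L] [Algebra (P k n) L] [Algebra (F k n) L]
  [IsScalarTower (P k n) (F k n) L] [IsScalarTower (P k n) A L] [FiniteDimensional (F k n) L]
  [Algebra (V k n) L] [IsScalarTower (V k n) (F k n) L]

/-- The valuation ring at infinity, integrally closed up. -/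
noncomputable abbrev O := integralClosure (V k n) L

omit [FaithfulSMul (P k n) A] [IsFractionRing A L] [FiniteDimensional (F k n) L] in
/-- An element integral over the polynomial ring and over the valuation ring of the degree is integral over `k`. -/
theorem isIntegral_of_mem (a : A) (ha : IsIntegral (V k n) (algebraMap A L a)) :
    IsIntegral k a := by
  have h1 : IsIntegral (P k n) a := Algebra.IsIntegral.isIntegral a
  have h2 : minpoly (F k n) (algebraMap A L a) = (minpoly (P k n) a).map (algebraMap (P k n) (F k n)) :=
    minpoly.isIntegrallyClosed_eq_field_fractions (F k n) L h1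
  have h3 : minpoly (F k n) (algebraMap A L a) =
      (minpoly (V k n) (algebraMap A L a)).map (algebraMap (V k n) (F k n)) :=
    minpoly.isIntegrallyClosed_eq_field_fractions' (F k n) ha
  have h4 : ∀ i, ((minpoly (P k n) a).coeff i).totalDegree = 0 := by
    intro i
    apply totalDegree_eq_zero_of_mem
    have h5 := congrArg (fun p => p.coeff i) (h2.symm.trans h3)
    simp only [Polynomial.coeff_map] at h5
    rw [h5]
    exact Subtype.prop _
  have h5 : ∃ q : Polynomial k, q.map (C : k →+* P k n) = minpoly (P k n) a := by
    rw [← Polynomial.mem_lifts, Polynomial.lifts_iff_coeff_lifts]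
    intro i
    exact ⟨_, (totalDegree_eq_zero_iff_eq_C.mp (h4 i)).symm⟩
  obtain ⟨q, hq, -, hqm⟩ := Polynomial.lifts_and_degree_eq_and_monic ((Polynomial.mem_lifts _).mpr h5)
    (minpoly.monic h1)
  refine ⟨q, hqm, ?_⟩
  have h6 := minpoly.aeval (P k n) a
  rw [← hq, Polynomial.aeval_def, Polynomial.eval₂_map] at h6
  rw [← h6]
  congr 1
  rw [IsScalarTower.algebraMap_eq k (P k n) A]
  rfl

omit [FaithfulSMul (P k n) A] [IsFractionRing A L] in
include L in
theorem exists_hom_of_succ [IsAlgClosed k] (hn : 0 < n) : ∃ (N : ℕ) (w : Aˣ →* Multiplicative (Fin N → ℤ)),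
    ∀ a, w a = 1 ↔ ∃ c : k, algebraMap k A c = a := by
  have hdvr : IsDiscreteValuationRing (V k n) := isDVR ⟨0, hn⟩
  have hdim : ringKrullDim (V k n) = 1 := IsDiscreteValuationRing.ringKrullDim_eq_one _
  have hdd : IsDedekindDomain (O k n L) :=
    Groth.Agent.CycA.FinExtDomain.isDedekindDomain_integralClosure (V k n) (F k n) L hdim
  have hfr : IsFractionRing (O k n L) L :=
    IsIntegralClosure.isFractionRing_of_finite_extension (V k n) (F k n) L _
  have hfin : Finite (HeightOneSpectrum (O k n L)) := by
    have h1 := Groth.Agent.CycA.FinExtDomain.finite_isMaximal (V k n) (F k n) L hdim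
    have : Finite {I : Ideal (integralClosure (V k n) L) // I.IsMaximal} := h1
    exact Finite.of_injective (fun v : HeightOneSpectrum (O k n L) =>
      (⟨v.asIdeal, v.isMaximal⟩ : {I : Ideal (integralClosure (V k n) L) // I.IsMaximal}))
      (fun v w h => HeightOneSpectrum.ext (congrArg Subtype.val h))
  obtain ⟨N, ⟨e⟩⟩ := Finite.exists_equiv_fin (HeightOneSpectrum (O k n L))
  let ι : Aˣ →* Lˣ := Units.map (algebraMap A L).toMonoidHom
  let w : Aˣ →* Multiplicative (Fin N → ℤ) :=
    { toFun := fun a => Multiplicative.ofAdd (fun j => Multiplicative.toAdd ((e.symm j).valuationOfNeZero (ι a)))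
      map_one' := by
        rw [map_one]
        apply Multiplicative.toAdd.injective
        ext j
        simp
      map_mul' := fun a b => by
        rw [map_mul]
        apply Multiplicative.toAdd.injective
        ext j
        simp }
  have hw : ∀ a, w a = 1 ↔ ∀ v : HeightOneSpectrum (O k n L), v.valuationOfNeZero (ι a) = 1 := by
    intro a
    constructor
    · intro h v
      have h1 := congrFun (congrArg Multiplicative.toAdd h) (e v)
      apply Multiplicative.toAdd.injective
      simpa [w] using h1
    · intro h
      apply Multiplicative.toAdd.injective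
      ext j
      simp [w, h]
  refine ⟨N, w, fun a => ?_⟩
  rw [hw]
  constructor
  · intro h
    have h1 : algebraMap A L a ∈ (algebraMap (O k n L) L).range := by
      apply HeightOneSpectrum.mem_integers_of_valuation_le_one
      intro v
      have h2 := v.valuationOfNeZero_eq (ι a)
      rw [h v] at h2
      change v.valuation L (ι a : L) ≤ 1
      rw [← h2]
      exact le_rfl
    obtain ⟨b, hb⟩ := h1
    have h2 : IsIntegral (V k n) (algebraMap A L a) := by
      rw [← hb]
      exact b.2
    exact exists_algebraMap_eq k A a (isIntegral_of_mem k n A L a h2)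
  · rintro ⟨c, hc⟩ v
    have h1 : ∀ c : k, v.valuation L (algebraMap A L (algebraMap k A c)) ≤ 1 := by
      intro c
      have h2 : algebraMap A L (algebraMap k A c) =
          algebraMap (F k n) L (algebraMap (P k n) (F k n) (C c)) := by
        rw [IsScalarTower.algebraMap_apply k (P k n) A, ← IsScalarTower.algebraMap_apply (P k n) A L,
          ← IsScalarTower.algebraMap_apply (P k n) (F k n) L]
        rfl
      have h3 : algebraMap A L (algebraMap k A c) =
          algebraMap (O k n L) L (algebraMap (V k n) (O k n L) ⟨_, mem_V_C c⟩) := by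
        rw [h2, ← IsScalarTower.algebraMap_apply (V k n) (O k n L) L, IsScalarTower.algebraMap_apply (V k n) (F k n) L]
        rfl
      rw [h3]
      exact v.valuation_le_one _
    have h4 : v.valuation L (ι a : L) = 1 := by
      have h5 : (ι a : L) = algebraMap A L (algebraMap k A c) := by
        rw [hc]
        rfl
      rw [h5]
      apply le_antisymm (h1 c)
      have hc0 : c ≠ 0 := by
        rintro rfl
        rw [map_zero] at hc
        exact a.ne_zero hc.symm
      have h6 := h1 c⁻¹
      have h7 : v.valuation L (algebraMap A L (algebraMap k A c)) *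
        v.valuation L (algebraMap A L (algebraMap k A c⁻¹)) = 1 := by
        rw [← map_mul, ← map_mul, ← map_mul, mul_inv_cancel₀ hc0, map_one, map_one, map_one]
      calc (1 : WithZero (Multiplicative ℤ)) = _ := h7.symm
        _ ≤ v.valuation L (algebraMap A L (algebraMap k A c)) * 1 :=
          mul_le_mul_right h6 _
        _ = _ := mul_one _
    have h8 := v.valuationOfNeZero_eq (ι a)
    rw [h4] at h8
    exact WithZero.coe_injective h8

end main

theorem exists_hom (k : Type u) [Field k] [IsAlgClosed k] (A : Type u) [CommRing A] [IsDomain A] [Algebra k A]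
    [Algebra.FiniteType k A] : ∃ (N : ℕ) (w : Aˣ →* Multiplicative (Fin N → ℤ)),
    ∀ a, w a = 1 ↔ ∃ c : k, algebraMap k A c = a := by
  obtain ⟨n, g, hg, hfin⟩ := exists_finite_inj_algHom_of_fg k A
  let _ : Algebra (P k n) A := g.toRingHom.toAlgebra
  have : IsScalarTower k (P k n) A := IsScalarTower.of_algebraMap_eq fun c => (g.commutes c).symm
  have : FaithfulSMul (P k n) A := (faithfulSMul_iff_algebraMap_injective _ _).mpr hg
  have : Module.Finite (P k n) A := hfin
  rcases Nat.eq_zero_or_pos n with rfl | hn
  · refine ⟨0, 1, fun a => ⟨fun _ => ?_, fun _ => rfl⟩⟩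
    apply exists_algebraMap_eq
    have h1 : Algebra.IsIntegral k (P k 0) := ⟨fun x => by
      obtain ⟨c, rfl⟩ := MvPolynomial.C_surjective (Fin 0) x
      exact isIntegral_algebraMap⟩
    exact isIntegral_trans (R := k) (A := P k 0) _ (Algebra.IsIntegral.isIntegral _)
  · let L := FractionRing A
    let _ : Algebra (F k n) L := FractionRing.liftAlgebra (P k n) L
    have : IsScalarTower (P k n) (F k n) L := FractionRing.isScalarTower_liftAlgebra (P k n) L
    have : FiniteDimensional (F k n) L := inferInstance
    let _ : Algebra (V k n) L := ((algebraMap (F k n) L).comp (algebraMap (V k n) (F k n))).toAlgebra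
    have : IsScalarTower (V k n) (F k n) L := IsScalarTower.of_algebraMap_eq fun _ => rfl
    exact exists_hom_of_succ k n A L hn

/-- A group with a homomorphism to a free abelian group of finite rank has a surjection to such a group
with the same kernel. -/
theorem exists_surjective {G : Type*} [CommGroup G] (N : ℕ) (w : G →* Multiplicative (Fin N → ℤ)) :
    ∃ (n : ℕ) (v : G →* Multiplicative (Fin n → ℤ)), Function.Surjective v ∧ v.ker = w.ker := by
  let w' : Additive G →+ (Fin N → ℤ) := MonoidHom.toAdditiveLeft w
  let M : Submodule ℤ (Fin N → ℤ) := AddSubgroup.toIntSubmodule w'.range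
  obtain ⟨n, b⟩ := Submodule.basisOfPid (Pi.basisFun ℤ (Fin N)) M
  let f : M ≃ₗ[ℤ] (Fin n → ℤ) := b.equivFun
  let r : Additive G →+ M := w'.rangeRestrict
  let v' : Additive G →+ (Fin n → ℤ) := f.toLinearMap.toAddMonoidHom.comp r
  refine ⟨n, AddMonoidHom.toMultiplicativeRight v', ?_, ?_⟩
  · intro y
    obtain ⟨x, hx⟩ := w'.rangeRestrict_surjective (f.symm (Multiplicative.toAdd y))
    refine ⟨Additive.toMul x, ?_⟩
    apply Multiplicative.toAdd.injective
    change f (r x) = _
    change r x = _ at hx
    rw [hx]
    exact f.apply_symm_apply _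
  · ext x
    rw [MonoidHom.mem_ker, MonoidHom.mem_ker]
    have h1 : AddMonoidHom.toMultiplicativeRight v' x = 1 ↔ f (r (Additive.ofMul x)) = 0 := Iff.rfl
    have h2 : w x = 1 ↔ w' (Additive.ofMul x) = 0 := Iff.rfl
    rw [h1, h2, LinearEquiv.map_eq_zero_iff]
    exact ⟨fun h => congrArg Subtype.val h, fun h => Subtype.ext h⟩

end K406.UnitsFin
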