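import Groth.Agent.Fdesc.TensorDomain
import Mathlib.RingTheory.Valuation.LocalSubring

/-!
# Units of the tensor product of two domains over an algebraically closed field

If `k` is algebraically closed and `A`, `B` are `k`-domains with rational points, then every unit of
`A ⊗[k] B` is of the form `a ⊗ b`.
-/

set_option autoImplicit false
universe u v w

open TensorProduct

namespace K406.UnitsTensor

open Groth.Agent.Fdesc.TensorDomain

variable {k : Type u} {L : Type v} {B : Type w} [Field k] [Field L] [Algebra k L] [CommRing B] [Algebra k B]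

/-- Content decomposition with respect to a valuation ring. -/
theorem exists_smul_map (V : ValuationSubring L) [Algebra k V] [IsScalarTower k V L] (x : L ⊗[k] B) (hx : x ≠ 0) :
    ∃ (c : L) (u : V ⊗[k] B), c ≠ 0 ∧
      x = c • Algebra.TensorProduct.map (IsScalarTower.toAlgHom k V L) (AlgHom.id k B) u ∧
      Algebra.TensorProduct.map (IsScalarTower.toAlgHom k V (IsLocalRing.ResidueField V)) (AlgHom.id k B) u ≠ 0 := by
  classical
  let b := Module.Basis.ofVectorSpace k B
  let bL := Algebra.TensorProduct.basis L b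
  let bV := Algebra.TensorProduct.basis V b
  have hs : (bL.repr x).support.Nonempty := by
    rw [Finsupp.support_nonempty_iff]
    intro h
    exact hx (bL.repr.map_eq_zero_iff.1 h)
  obtain ⟨j, hj, hmax⟩ := Finset.exists_max_image _ (fun i => V.valuation (bL.repr x i)) hs
  let c := bL.repr x j
  have hc : c ≠ 0 := Finsupp.mem_support_iff.1 hj
  have hmem : ∀ i, bL.repr x i / c ∈ V := by
    intro i
    rw [← V.valuation_le_one_iff, map_div₀]
    by_cases hi : i ∈ (bL.repr x).support
    · exact div_le_one_of_le₀ (hmax i hi) zero_le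
    · rw [Finsupp.notMem_support_iff.1 hi]
      simp
  let g : L → V := fun a => if h : a / c ∈ V then ⟨a / c, h⟩ else 0
  have hg0 : g 0 = 0 := by
    simp only [g]
    split_ifs with h
    · ext; simp
    · rfl
  let u : V ⊗[k] B := bV.repr.symm ((bL.repr x).mapRange g hg0)
  have hu : ∀ i, ((bV.repr u i : V) : L) = bL.repr x i / c := by
    intro i
    simp only [u, LinearEquiv.apply_symm_apply, Finsupp.mapRange_apply, g]
    rw [dif_pos (hmem i)]
  refine ⟨c, u, hc, ?_, ?_⟩
  · apply bL.repr.injective
    ext i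
    rw [map_smul, Finsupp.smul_apply, repr_map b (IsScalarTower.toAlgHom k V L) u i]
    change _ = c * ((bV.repr u i : V) : L)
    rw [hu i, mul_div_cancel₀ _ hc]
  · intro h0
    have h1 : bV.repr u j = 1 := by
      ext
      rw [hu j]
      simp [c, div_self hc]
    have h2 := repr_map b (IsScalarTower.toAlgHom k V (IsLocalRing.ResidueField V)) u j
    rw [h0] at h2
    change _ = IsLocalRing.residue V (bV.repr u j) at h2
    rw [h1] at h2
    simp at h2

/-- A unit of `L ⊗ B` is a scalar times a unit of `V ⊗ B`. -/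
theorem exists_smul_unit [IsAlgClosed k] [IsDomain B] (V : ValuationSubring L) [Algebra k V] [IsScalarTower k V L]
    (x : L ⊗[k] B) (hx : IsUnit x) :
    ∃ (c : L) (u : V ⊗[k] B), c ≠ 0 ∧ IsUnit u ∧
      x = c • Algebra.TensorProduct.map (IsScalarTower.toAlgHom k V L) (AlgHom.id k B) u := by
  have hdom : IsDomain (L ⊗[k] B) := isDomain_tensorProduct
  have hdom2 : IsDomain (IsLocalRing.ResidueField V ⊗[k] B) := isDomain_tensorProduct
  obtain ⟨y, hy⟩ := hx.exists_right_inv
  obtain ⟨c, u, hc, h1, h2⟩ := exists_smul_map V x hx.ne_zero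
  obtain ⟨c', u', hc', h1', h2'⟩ := exists_smul_map V y (by rintro rfl; simp at hy)
  refine ⟨c, u, hc, ?_, h1⟩
  let b := Module.Basis.ofVectorSpace k B
  have hinj : Function.Injective (Algebra.TensorProduct.map (IsScalarTower.toAlgHom k V L) (AlgHom.id k B)) := by
    have := Module.Flat.rTensor_preserves_injective_linearMap (M := B)
      ((IsScalarTower.toAlgHom k V L).toLinearMap) Subtype.val_injective
    exact this
  -- the product
  have h3 : (c * c')⁻¹ • (1 : L ⊗[k] B) =
      Algebra.TensorProduct.map (IsScalarTower.toAlgHom k V L) (AlgHom.id k B) (u * u') := by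
    rw [← hy, h1, h1', smul_mul_smul_comm, smul_smul, inv_mul_cancel₀ (mul_ne_zero hc hc'), one_smul, map_mul]
  have h4 : ∃ i, b.repr (1 : B) i ≠ 0 := by
    by_contra! h
    have : (1 : B) = 0 := b.repr.map_eq_zero_iff.1 (Finsupp.ext h)
    exact one_ne_zero this
  obtain ⟨i, hi⟩ := h4
  have h5 : (Algebra.TensorProduct.basis L b).repr ((c * c')⁻¹ • (1 : L ⊗[k] B)) i =
      (Algebra.TensorProduct.basis L b).repr
        (Algebra.TensorProduct.map (IsScalarTower.toAlgHom k V L) (AlgHom.id k B) (u * u')) i := by rw [h3]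
  rw [repr_map b (IsScalarTower.toAlgHom k V L) (u * u') i, map_smul, Finsupp.smul_apply,
    Algebra.TensorProduct.one_def, Algebra.TensorProduct.basis_repr_tmul, Finsupp.smul_apply,
    Finsupp.mapRange_apply, smul_eq_mul, smul_eq_mul, one_mul] at h5
  have h6 : (c * c')⁻¹ ∈ V := by
    have h7 : (c * c')⁻¹ = ((Algebra.TensorProduct.basis V b).repr (u * u') i : V) *
        algebraMap k L (b.repr (1 : B) i)⁻¹ := by
      change _ = (IsScalarTower.toAlgHom k V L) _ * _
      rw [← h5, mul_assoc, ← map_mul, mul_inv_cancel₀ hi, map_one, mul_one]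
    rw [h7, IsScalarTower.algebraMap_apply k V L]
    exact mul_mem (Subtype.prop _) (Subtype.prop _)
  have h8 : u * u' = algebraMap V (V ⊗[k] B) ⟨_, h6⟩ := by
    apply hinj
    rw [← h3]
    change _ = Algebra.TensorProduct.map (IsScalarTower.toAlgHom k V L) (AlgHom.id k B) (_ ⊗ₜ[k] (1 : B))
    rw [Algebra.TensorProduct.map_tmul, map_one, Algebra.TensorProduct.one_def, TensorProduct.smul_tmul', smul_eq_mul,
      mul_one]
    rfl
  have h9 : IsUnit (⟨_, h6⟩ : V) := by
    rw [← not_not (a := IsUnit _), ← mem_nonunits_iff, ← IsLocalRing.mem_maximalIdeal,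
      ← IsLocalRing.residue_eq_zero_iff]
    intro h10
    have h11 : Algebra.TensorProduct.map (IsScalarTower.toAlgHom k V (IsLocalRing.ResidueField V)) (AlgHom.id k B)
        (u * u') = 0 := by
      rw [h8]
      change Algebra.TensorProduct.map _ _ (_ ⊗ₜ[k] (1 : B)) = 0
      rw [Algebra.TensorProduct.map_tmul]
      change (IsLocalRing.residue V ⟨_, h6⟩) ⊗ₜ[k] _ = 0
      rw [h10, TensorProduct.zero_tmul]
    rw [map_mul] at h11
    exact mul_ne_zero h2 h2' h11
  have h12 : IsUnit (u * u') := by
    rw [h8]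
    exact h9.map _
  exact isUnit_of_mul_isUnit_left h12

/-- evaluation at a rational point of the second factor -/
noncomputable abbrev evR (A : Type*) [CommRing A] [Algebra k A] (y : B →ₐ[k] k) : A ⊗[k] B →ₐ[k] A :=
  (Algebra.TensorProduct.rid k k A).toAlgHom.comp (Algebra.TensorProduct.map (AlgHom.id k A) y)

theorem evR_tmul (A : Type*) [CommRing A] [Algebra k A] (y : B →ₐ[k] k) (a : A) (b : B) :
    evR A y (a ⊗ₜ b) = y b • a := by
  simp [evR]

theorem evR_map {A A' : Type*} [CommRing A] [Algebra k A] [CommRing A'] [Algebra k A'] (φ : A →ₐ[k] A')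
    (y : B →ₐ[k] k) (x : A ⊗[k] B) :
    evR A' y (Algebra.TensorProduct.map φ (AlgHom.id k B) x) = φ (evR A y x) := by
  induction x using TensorProduct.induction_on with
  | zero => simp
  | tmul a c =>
    rw [Algebra.TensorProduct.map_tmul, evR_tmul, evR_tmul, map_smul]
    rfl
  | add x y hx hy => rw [map_add, map_add, hx, hy, map_add, map_add]

/-- A unit of `L ⊗ B`, `L` a field, is the product of its specialization and a unit of `B`. -/
theorem exists_eq_tmul_of_field [IsAlgClosed k] [IsDomain B] (y : B →ₐ[k] k) (x : L ⊗[k] B) (hx : IsUnit x) :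
    ∃ b : B, x = evR L y x ⊗ₜ[k] b := by
  classical
  have hx0 : IsUnit (evR L y x) := hx.map _
  let x₀ := evR L y x
  let h : L ⊗[k] B := x₀⁻¹ • x
  let b := Module.Basis.ofVectorSpace k B
  have key : ∀ (V : ValuationSubring L), (∀ c : k, algebraMap k L c ∈ V) → ∀ i,
      (Algebra.TensorProduct.basis L b).repr h i ∈ V := by
    intro V hV i
    let _ : Algebra k V := ((algebraMap k L).codRestrict V.toSubring hV).toAlgebra
    have : IsScalarTower k V L := IsScalarTower.of_algebraMap_eq (fun _ => rfl)
    obtain ⟨c, u, hc, hu, hxu⟩ := exists_smul_unit V x hx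
    have h1 : x₀ = c * (evR V y u : V) := by
      change evR L y x = _
      rw [hxu]
      have : c • Algebra.TensorProduct.map (IsScalarTower.toAlgHom k V L) (AlgHom.id k B) u =
        (c ⊗ₜ[k] (1 : B)) * Algebra.TensorProduct.map (IsScalarTower.toAlgHom k V L) (AlgHom.id k B) u := by
        rw [Algebra.smul_def]
        rfl
      rw [this, map_mul, evR_tmul, map_one, one_smul, evR_map]
      rfl
    have h2 : IsUnit (evR V y u) := hu.map _
    obtain ⟨w, hw⟩ := h2
    have h3 : h = ((w⁻¹ : Vˣ) : V) • Algebra.TensorProduct.map (IsScalarTower.toAlgHom k V L) (AlgHom.id k B) u := by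
      change x₀⁻¹ • x = _
      rw [h1, ← hw]
      nth_rw 1 [hxu]
      rw [smul_smul]
      have h4 : (c * ((w : V) : L))⁻¹ * c = (((w⁻¹ : Vˣ) : V) : L) := by
        have h5 : ((w : V) : L) * (((w⁻¹ : Vˣ) : V) : L) = 1 := by
          have := congrArg (Subtype.val : V → L) (Units.mul_inv w)
          exact this
        have h6 : ((w : V) : L) ≠ 0 := left_ne_zero_of_mul_eq_one h5
        rw [mul_inv, mul_comm c⁻¹, mul_assoc, inv_mul_cancel₀ hc, mul_one]
        exact inv_eq_of_mul_eq_one_right h5
      rw [h4]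
      rfl
    rw [h3]
    have h7 : ((w⁻¹ : Vˣ) : V) • Algebra.TensorProduct.map (IsScalarTower.toAlgHom k V L) (AlgHom.id k B) u =
      (((w⁻¹ : Vˣ) : V) : L) • Algebra.TensorProduct.map (IsScalarTower.toAlgHom k V L) (AlgHom.id k B) u := rfl
    rw [h7, map_smul, Finsupp.smul_apply, repr_map b (IsScalarTower.toAlgHom k V L) u i]
    exact mul_mem (Subtype.prop _) (Subtype.prop _)
  have hcl : ∀ i, ∃ c : k, algebraMap k L c = (Algebra.TensorProduct.basis L b).repr h i := by
    intro i
    by_contra hne
    let R : Subring L := (algebraMap k L).range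
    have hR : IsIntegrallyClosedIn R L := by
      rw [Subring.isIntegrallyClosedIn_iff]
      intro z hz
      let _ : Algebra k R := (algebraMap k L).rangeRestrict.toAlgebra
      have : IsScalarTower k R L := IsScalarTower.of_algebraMap_eq (fun _ => rfl)
      have h1 : Algebra.IsIntegral k R := ⟨(algebraMap k L).rangeRestrict.isIntegral_of_surjective
        (algebraMap k L).rangeRestrict_surjective⟩
      have h2 : IsIntegral k z := isIntegral_trans (R := k) (A := R) z hz
      have h3 : Function.Bijective (algebraMap k (integralClosure k L)) :=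
        IsAlgClosed.algebraMap_bijective_of_isIntegral
      obtain ⟨c, hc⟩ := h3.2 ⟨z, h2⟩
      exact ⟨c, congrArg Subtype.val hc⟩
    obtain ⟨V, hV1, hV2⟩ := Subring.exists_le_valuationSubring_of_isIntegrallyClosedIn (K := L)
      (x := (Algebra.TensorProduct.basis L b).repr h i) (R := R) (fun hmem => hne hmem)
    exact hV2 (key V (fun c => hV1 ⟨c, rfl⟩) i)
  choose c hc using hcl
  have hc0 : ∀ i, c i ≠ 0 → i ∈ ((Algebra.TensorProduct.basis L b).repr h).support := by
    intro i hi
    rw [Finsupp.mem_support_iff, ← hc i]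
    exact (map_ne_zero_iff _ (algebraMap k L).injective).mpr hi
  refine ⟨((Algebra.TensorProduct.basis L b).repr h).support.sum (fun i => c i • b i), ?_⟩
  have h1 : h = 1 ⊗ₜ[k] (((Algebra.TensorProduct.basis L b).repr h).support.sum (fun i => c i • b i)) := by
    rw [TensorProduct.tmul_sum]
    conv_lhs => rw [← (Algebra.TensorProduct.basis L b).linearCombination_repr h]
    rw [Finsupp.linearCombination_apply, Finsupp.sum]
    refine Finset.sum_congr rfl fun i _ => ?_
    rw [← hc i, Algebra.TensorProduct.basis_apply, algebraMap_smul, ← TensorProduct.tmul_smul]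
  have h2 : x = x₀ • h := by
    change x = x₀ • (x₀⁻¹ • x)
    rw [smul_smul, mul_inv_cancel₀ hx0.ne_zero, one_smul]
  rw [h2] 
  nth_rw 1 [h1]
  rw [← h2, TensorProduct.smul_tmul', smul_eq_mul, mul_one]

/-- A unit of `A ⊗ B` is the product of its specializations, up to a constant. -/
theorem unit_eq_tmul {A : Type v} [CommRing A] [IsDomain A] [Algebra k A] [IsAlgClosed k] [IsDomain B]
    (x₀ : A →ₐ[k] k) (y₀ : B →ₐ[k] k) (f : A ⊗[k] B) (hf : IsUnit f) :
    x₀ (evR A y₀ f) • f = (evR A y₀ f) ⊗ₜ[k]
      ((Algebra.TensorProduct.lid k B).toAlgHom.comp (Algebra.TensorProduct.map x₀ (AlgHom.id k B)) f) := by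
  let L := FractionRing A
  have hinj : Function.Injective (Algebra.TensorProduct.map (IsScalarTower.toAlgHom k A L) (AlgHom.id k B)) := by
    have := Module.Flat.rTensor_preserves_injective_linearMap (M := B)
      ((IsScalarTower.toAlgHom k A L).toLinearMap) (IsFractionRing.injective A L)
    exact this
  obtain ⟨b, hb⟩ := exists_eq_tmul_of_field y₀
    (Algebra.TensorProduct.map (IsScalarTower.toAlgHom k A L) (AlgHom.id k B) f) (hf.map _)
  have h1 : f = evR A y₀ f ⊗ₜ[k] b := by
    apply hinj
    rw [hb, evR_map, Algebra.TensorProduct.map_tmul]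
    rfl
  have h2 : ((Algebra.TensorProduct.lid k B).toAlgHom.comp (Algebra.TensorProduct.map x₀ (AlgHom.id k B)) f) =
      x₀ (evR A y₀ f) • b := by
    conv_lhs => rw [h1]
    simp
  rw [h2, TensorProduct.tmul_smul, ← h1]

end K406.UnitsTensor
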